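import Mathlib.NumberTheory.LegendreSymbol.QuadraticChar.GaussSum
import Mathlib.LinearAlgebra.Matrix.SpecialLinearGroup
import Cfsg.Prelude.Def_Sz
import Cfsg.Agent.Lib.Suzuki.Minor
import Cfsg.Agent.Lib.Suzuki.Field

/-!
# Elements with a larger centraliser for their square
-/

set_option autoImplicit false
set_option linter.style.haveILetI false
set_option linter.unusedSectionVars false

namespace Cfsg.Agent.ConjRankThree

universe u v

/-- Some square has a larger centraliser than its root. -/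
def SquareGrows (G : Type u) [Group G] : Prop :=
  ∃ y h : G, y * y ≠ 1 ∧ h * (y * y) = y * y * h ∧ h * y ≠ y * h

theorem SquareGrows.of_equiv {G : Type u} {H : Type v} [Group G] [Group H] (e : G ≃* H)
    (h : SquareGrows H) : SquareGrows G := by
  obtain ⟨y, g, h1, h2, h3⟩ := h
  refine ⟨e.symm y, e.symm g, fun he => h1 ?_, ?_, fun he => h3 ?_⟩
  · rw [← map_mul] at he
    exact e.symm.injective (he.trans (map_one _).symm)
  · rw [← map_mul, ← map_mul, h2, map_mul]
  · rw [← map_mul, ← map_mul] at he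
    exact e.symm.injective he

theorem squareGrows_sz {F : Type} [Field F] [Fintype F] {m : ℕ} (h : Suzuki.SzField F m) :
    SquareGrows (Cfsg.Sz F m) := by
  obtain ⟨a, ha⟩ := h.exists_θ_ne
  have h2 : (1 : F) + 1 = 0 := by linear_combination h.two_eq_zero
  have hy : Suzuki.T h 1 0 * Suzuki.T h 1 0 = Suzuki.T h 0 1 := by
    rw [Suzuki.T_mul]; simp [h2]
  refine ⟨Suzuki.T h 1 0, Suzuki.T h a 0, fun e => ?_, ?_, fun e => ?_⟩
  · rw [hy, ← Suzuki.T_zero h] at e
    exact one_ne_zero (Suzuki.T_injective h e).2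
  · rw [hy, Suzuki.T_mul, Suzuki.T_mul]; simp
  · rw [Suzuki.T_mul, Suzuki.T_mul] at e
    have := (Suzuki.T_injective h e).2
    simp at this
    exact ha this

section matrices

variable {n : Type*} [Fintype n] [DecidableEq n] {F : Type*} [Field F]

open Matrix

theorem exists_smul_of_mk_eq {A B : SpecialLinearGroup n F}
    (e : (QuotientGroup.mk A : ProjectiveSpecialLinearGroup n F) = QuotientGroup.mk B) :
    ∃ r : F, r ^ Fintype.card n = 1 ∧ (B : Matrix n n F) = r • (A : Matrix n n F) := by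
  obtain ⟨r, hr, hs⟩ := Matrix.SpecialLinearGroup.mem_center_iff.1 (QuotientGroup.eq.1 e)
  refine ⟨r, hr, ?_⟩
  have hB : B = A * (A⁻¹ * B) := by group
  conv_lhs => rw [hB]
  rw [Matrix.SpecialLinearGroup.coe_mul, ← hs, scalar_apply, ← smul_one_eq_diagonal, Matrix.mul_smul,
    Matrix.mul_one]

theorem mk_eq_of_scalar {A B : SpecialLinearGroup n F} (r : F)
    (e : (B : Matrix n n F) = r • (A : Matrix n n F)) :
    (QuotientGroup.mk A : ProjectiveSpecialLinearGroup n F) = QuotientGroup.mk B := by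
  refine QuotientGroup.eq.2 (Matrix.SpecialLinearGroup.mem_center_iff.2 ⟨r, ?_, ?_⟩)
  · have h := congrArg Matrix.det e
    rw [det_smul, A.2, B.2, mul_one] at h
    exact h.symm
  · rw [Matrix.SpecialLinearGroup.coe_mul, e, Matrix.mul_smul, ← Matrix.SpecialLinearGroup.coe_mul, inv_mul_cancel,
      Matrix.SpecialLinearGroup.coe_one, scalar_apply, ← smul_one_eq_diagonal]

end matrices

open Matrix in
theorem squareGrows_psl_three {F : Type} [Field F] [Fintype F] (hF : Fintype.card F = 4) :
    SquareGrows (ProjectiveSpecialLinearGroup (Fin 3) F) := by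
  classical
  haveI : CharP F 2 := by
    haveI := Fact.mk Nat.prime_two
    exact charP_of_card_eq_prime_pow (f := 2) (by norm_num [hF])
  obtain ⟨w, hw0⟩ : ∃ w : F, w ≠ 0 := ⟨1, one_ne_zero⟩
  obtain ⟨Y, hY⟩ : ∃ A : SpecialLinearGroup (Fin 3) F,
      (A : Matrix (Fin 3) (Fin 3) F) = !![1, 1, 0; 0, 1, 1; 0, 0, 1] :=
    ⟨⟨!![1, 1, 0; 0, 1, 1; 0, 0, 1], by simp [Matrix.det_fin_three]⟩, rfl⟩
  obtain ⟨H, hH⟩ : ∃ A : SpecialLinearGroup (Fin 3) F,
      (A : Matrix (Fin 3) (Fin 3) F) = !![1, w, 0; 0, 1, 0; 0, 0, 1] :=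
    ⟨⟨!![1, w, 0; 0, 1, 0; 0, 0, 1], by simp [Matrix.det_fin_three]⟩, rfl⟩
  refine ⟨QuotientGroup.mk Y, QuotientGroup.mk H, fun e => ?_, ?_, fun e => ?_⟩
  · obtain ⟨r, -, hr⟩ := exists_smul_of_mk_eq (A := 1) (B := Y * Y) e.symm
    have := congrFun (congrFun hr 0) 2
    simp [hY, Matrix.SpecialLinearGroup.coe_mul, Matrix.mul_apply, Fin.sum_univ_three] at this
  · refine mk_eq_of_scalar (A := H * (Y * Y)) (B := Y * Y * H) 1 ?_
    ext i j
    fin_cases i <;> fin_cases j <;>
      simp [hY, hH, Matrix.SpecialLinearGroup.coe_mul, Matrix.mul_apply, Fin.sum_univ_three, CharTwo.add_self_eq_zero]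
  · obtain ⟨r, -, hr⟩ := exists_smul_of_mk_eq (A := H * Y) (B := Y * H) e
    have h00 := congrFun (congrFun hr 0) 0
    have h02 := congrFun (congrFun hr 0) 2
    simp [hY, hH, Matrix.SpecialLinearGroup.coe_mul, Matrix.mul_apply, Fin.sum_univ_three] at h00 h02
    subst h00
    simp [hw0] at h02

open Matrix in
theorem squareGrows_psl_two {F : Type} [Field F] [Fintype F] (h2 : (2 : F) ≠ 0)
    (hsq : IsSquare (2 : F)) : SquareGrows (ProjectiveSpecialLinearGroup (Fin 2) F) := by
  classical
  obtain ⟨s, hs⟩ := hsq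
  have hs0 : s ≠ 0 := fun e => h2 (by rw [hs, e, mul_zero])
  obtain ⟨a, b, hab⟩ : ∃ a b : F, a * a + b * b + 1 = 0 := by
    obtain ⟨a, b, h⟩ := FiniteField.exists_root_sum_quadratic (R := F)
      (f := Polynomial.X ^ 2) (g := Polynomial.X ^ 2 + Polynomial.C 1)
      (Polynomial.degree_X_pow 2) (Polynomial.degree_X_pow_add_C two_pos 1)
      (by
        rcases Nat.even_or_odd (Fintype.card F) with he | ho
        · exfalso
          apply h2
          have hc : ringChar F = 2 := FiniteField.even_card_iff_char_two.2 (Nat.even_iff.1 he)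
          haveI : CharP F 2 := hc ▸ ringChar.charP F
          exact CharTwo.two_eq_zero
        · exact Nat.odd_iff.1 ho)
    exact ⟨a, b, by simp at h; linear_combination h⟩
  obtain ⟨Y, hY⟩ : ∃ A : SpecialLinearGroup (Fin 2) F,
      (A : Matrix (Fin 2) (Fin 2) F) = !![s⁻¹, s⁻¹; -s⁻¹, s⁻¹] :=
    ⟨⟨!![s⁻¹, s⁻¹; -s⁻¹, s⁻¹], by rw [Matrix.det_fin_two_of]; field_simp; linear_combination hs⟩, rfl⟩
  obtain ⟨H, hH⟩ : ∃ A : SpecialLinearGroup (Fin 2) F,
      (A : Matrix (Fin 2) (Fin 2) F) = !![a, b; b, -a] :=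
    ⟨⟨!![a, b; b, -a], by rw [Matrix.det_fin_two_of]; linear_combination -hab⟩, rfl⟩
  refine ⟨QuotientGroup.mk Y, QuotientGroup.mk H, fun e => ?_, ?_, fun e => ?_⟩
  · obtain ⟨r, -, hr⟩ := exists_smul_of_mk_eq (A := 1) (B := Y * Y) e.symm
    have := congrFun (congrFun hr 0) 1
    simp [hY, Matrix.SpecialLinearGroup.coe_mul, Matrix.mul_apply, Fin.sum_univ_two] at this
    field_simp at this
    exact h2 (by linear_combination this)
  · refine mk_eq_of_scalar (A := H * (Y * Y)) (B := Y * Y * H) (-1) ?_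
    ext i j
    fin_cases i <;> fin_cases j <;> simp [hY, hH, Matrix.SpecialLinearGroup.coe_mul, Matrix.mul_apply, Fin.sum_univ_two] <;> ring
  · obtain ⟨r, hr2, hr⟩ := exists_smul_of_mk_eq (A := H * Y) (B := Y * H) e
    rw [Fintype.card_fin] at hr2
    have h00 := congrFun (congrFun hr 0) 0
    have h01 := congrFun (congrFun hr 0) 1
    simp [hY, hH, Matrix.SpecialLinearGroup.coe_mul, Matrix.mul_apply, Fin.sum_univ_two] at h00 h01
    field_simp at h00 h01
    rcases eq_or_eq_neg_of_sq_eq_sq r 1 (by rw [hr2]; ring) with rfl | rfl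
    · have hb : b = 0 := by
        have : (2 : F) * b = 0 := by linear_combination h00
        exact (mul_eq_zero.1 this).resolve_left h2
      have ha : a = 0 := by
        have : (2 : F) * a = 0 := by linear_combination (-1 : F) * h01
        exact (mul_eq_zero.1 this).resolve_left h2
      exact one_ne_zero (by rw [ha, hb] at hab; linear_combination hab)
    · have ha : a = 0 := by
        have : (2 : F) * a = 0 := by linear_combination h00
        exact (mul_eq_zero.1 this).resolve_left h2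
      have hb : b = 0 := by
        have : (2 : F) * b = 0 := by linear_combination h01
        exact (mul_eq_zero.1 this).resolve_left h2
      exact one_ne_zero (by rw [ha, hb] at hab; linear_combination hab)

end Cfsg.Agent.ConjRankThree
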