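import Cfsg.Agent.Lib.ConjRankThree.Induced
import Cfsg.Agent.Lib.ConjRankThree.Witness
import Cfsg.Agent.Lib.SzRecog.Named
import Cfsg.Agent.Lib.EPPO.Main
import Cfsg.Agent.S0494

/-!
# Simple groups with three class sizes
-/

set_option autoImplicit false
set_option linter.style.haveILetI false
set_option linter.unusedSectionVars false

namespace Cfsg.Agent.ConjRankThree

universe u

variable {G : Type u} [Group G] [Finite G]

/-- The class sizes of the non-central elements. -/
def sizes (G : Type u) [Group G] : Set ℕ :=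
  {m : ℕ | ∃ x : G, x ∉ Subgroup.center G ∧ m = (Subgroup.centralizer ({x} : Set G)).index}

theorem center_eq_bot [IsSimpleGroup G] (hna : ∃ a b : G, a * b ≠ b * a) : Subgroup.center G = ⊥ :=
  (IsSimpleGroup.eq_bot_or_eq_top_of_normal _ inferInstance).resolve_right fun h => by
    obtain ⟨a, b, hab⟩ := hna
    exact hab (Subgroup.mem_center_iff.1 (h ▸ Subgroup.mem_top b) a)

theorem one_lt_ind (hZ : Subgroup.center G = ⊥) {g : G} (hg : g ≠ 1) : 1 < ind g := by
  refine lt_of_le_of_ne (index_pos g) fun h => hg ?_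
  have h1 : cen g = ⊤ := Subgroup.index_eq_one.1 h.symm
  exact Subgroup.mem_bot.1 (hZ ▸ Subgroup.mem_center_iff.2 fun w => mem_cen.1 (h1 ▸ Subgroup.mem_top w))

/-- With three class sizes no centraliser is properly inside another. -/
theorem no_containment [IsSimpleGroup G] (hna : ∃ a b : G, a * b ≠ b * a)
    (h3 : (sizes G).ncard = 3) {x y : G} (hx : x ≠ 1) (hy : y ≠ 1) (hle : cen y ≤ cen x) :
    cen y = cen x := by
  have hZ := center_eq_bot hna
  have hmem : ∀ {g : G}, g ≠ 1 → ind g ∈ sizes G := fun {g} hg =>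
    ⟨g, by rw [hZ, Subgroup.mem_bot]; exact hg, rfl⟩
  refine eq_of_le_of_ind hle ?_
  by_contra hne
  have hfin : (sizes G).Finite := Set.finite_of_ncard_ne_zero (by omega)
  obtain ⟨c, hc, hc'⟩ : ∃ c ∈ sizes G, c ∉ ({ind x, ind y} : Set ℕ) := by
    refine Set.exists_mem_notMem_of_ncard_lt_ncard ?_
    rw [Set.ncard_pair (Ne.symm hne), h3]
    norm_num
  simp only [Set.mem_insert_iff, Set.mem_singleton_iff, not_or] at hc'
  have hall : sizes G = {ind x, ind y, c} := by
    refine (Set.eq_of_subset_of_ncard_le ?_ ?_ hfin).symm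
    · rintro m (rfl | rfl | rfl)
      exacts [hmem hx, hmem hy, hc]
    · rw [h3, Set.ncard_eq_three.2 ⟨_, _, _, Ne.symm hne, hc'.1 ∘ Eq.symm, hc'.2 ∘ Eq.symm, rfl⟩]
  obtain ⟨z, hz, rfl⟩ := hc
  have hz1 : z ≠ 1 := fun e => hz (e ▸ Subgroup.one_mem _)
  have hvals : ∀ g : G, g ≠ 1 → ind g = ind x ∨ ind g = ind y ∨ ind g = ind z := fun g hg => by
    have := hall ▸ hmem hg
    simpa using this
  have hadiv := ind_dvd hle
  have hcop : (ind x).Coprime (ind z) := Nat.coprime_of_dvd fun k hk hkx hkz => by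
    obtain ⟨g, hg, hgk, -⟩ := exists_not_dvd hZ hk (hkx.trans (cen x).index_dvd_card)
    rcases hvals g hg with h | h | h <;> rw [h] at hgk
    exacts [hgk hkx, hgk (hkx.trans hadiv), hgk hkz]
  have hh : Ctx G (ind x) (ind y) (ind z) :=
    { simple := inferInstance
      center := hZ
      vals := hvals
      one_lt_a := one_lt_ind hZ hx
      one_lt_c := one_lt_ind hZ hz1
      ab := lt_of_le_of_ne (Nat.le_of_dvd (index_pos y) hadiv) (Ne.symm hne)
      adiv := hadiv
      cop := hcop
      exa := ⟨x, hx, rfl⟩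
      exc := ⟨z, hz1, rfl⟩ }
  have := Fintype.ofFinite G
  obtain ⟨x', r, hr, hxr, -, hxa⟩ := hh.exists_prime_a
  exact bound_false hh hr hxr hxa hz1 rfl (card_mul_ind y)

/-- A centraliser is commutative or a `p`-group. -/
theorem comm_or_pgroup (hF : ∀ x y : G, x ≠ 1 → y ≠ 1 → cen y ≤ cen x → cen y = cen x) {g : G}
    {p : ℕ} (hp : p.Prime) (hg : orderOf g = p) :
    (∀ u ∈ cen g, ∀ v ∈ cen g, u * v = v * u) ∨ IsPGroup p (cen g) := by
  by_cases hq : ∃ q, q.Prime ∧ q ≠ p ∧ q ∣ Nat.card (cen g)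
  · left
    obtain ⟨q, hq, hqp, hqd⟩ := hq
    haveI := Fact.mk hq
    obtain ⟨⟨w, hw⟩, hwq⟩ := exists_prime_orderOf_dvd_card' (G := cen g) q hqd
    rw [Subgroup.orderOf_mk] at hwq
    -- elements of coprime order commuting have equal centralisers
    have key : ∀ {s t : G}, s ≠ 1 → t ≠ 1 → s ∈ cen t → (orderOf s).Coprime (orderOf t) →
        cen s = cen t := by
      intro s t hs ht hst hco
      have hle := cen_mul_le (mem_cen.1 hst) hco
      have h1 : s * t ≠ 1 := fun e => by
        have h2 : orderOf s = orderOf t := by rw [eq_inv_of_mul_eq_one_left e, orderOf_inv]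
        rw [h2, Nat.coprime_self, orderOf_eq_one_iff] at hco
        exact ht hco
      exact (hF s (s * t) hs h1 (hle.trans inf_le_left)).symm.trans
        (hF t (s * t) ht h1 (hle.trans inf_le_right))
    have hg1 := ne_one_of_prime_order hp hg
    have hw1 := ne_one_of_prime_order hq hwq
    have hgw : cen w = cen g :=
      key hw1 hg1 hw (by rw [hwq, hg]; exact (Nat.coprime_primes hq hp).2 hqp)
    -- every primary element is central
    have hpr : ∀ {l k : ℕ}, l.Prime → ∀ s ∈ cen g, orderOf s = l ^ k → ∀ v ∈ cen g, v * s = s * v := by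
      intro l k hl s hs hsl v hv
      by_cases hs1 : s = 1
      · simp [hs1]
      have hcs : cen s = cen g := by
        by_cases hlp : l = p
        · rw [← hgw]
          refine key hs1 hw1 (hgw ▸ hs) ?_
          rw [hsl, hwq]
          exact ((Nat.coprime_primes hl hq).2 (hlp ▸ hqp.symm)).pow_left k
        · refine key hs1 hg1 hs ?_
          rw [hsl, hg]
          exact ((Nat.coprime_primes hl hp).2 hlp).pow_left k
      exact mem_cen.1 (hcs ▸ hv)
    have htop : Subgroup.center (cen g) = ⊤ := by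
      refine Subgroup.eq_top_of_le_card _ (Nat.le_of_dvd Nat.card_pos ?_)
      rw [Nat.dvd_iff_prime_pow_dvd_dvd]
      intro l k hl hd
      haveI := Fact.mk hl
      obtain ⟨L, hL⟩ := Sylow.exists_subgroup_card_pow_prime l hd
      rw [← hL]
      refine Subgroup.card_dvd_of_le fun s hs => Subgroup.mem_center_iff.2 fun v => Subtype.ext ?_
      obtain ⟨i, hi⟩ := IsPGroup.iff_orderOf.1 (IsPGroup.of_card hL) ⟨s, hs⟩
      rw [Subgroup.orderOf_mk, ← Subgroup.orderOf_coe] at hi
      exact hpr hl s s.2 hi v v.2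
    intro u hu v hv
    exact congrArg Subtype.val (Subgroup.mem_center_iff.1 (htop ▸ Subgroup.mem_top (⟨v, hv⟩ : cen g))
      (⟨u, hu⟩ : cen g))
  · right
    push Not at hq
    exact IsPGroup.of_card (Nat.eq_prime_pow_of_unique_prime_dvd Nat.card_pos.ne' fun hd hdd => by
      by_contra hne
      exact hq _ hd hne hdd)

theorem tiHyp_or_cit [IsSimpleGroup G] (hna : ∃ a b : G, a * b ≠ b * a)
    (hF : ∀ x y : G, x ≠ 1 → y ≠ 1 → cen y ≤ cen x → cen y = cen x) :
    (∃ K : Subgroup G, CNSimple.TIHyp K) ∨ CNSimple.CIT G := by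
  by_cases hc : CNSimple.CIT G
  · exact Or.inr hc
  left
  simp only [CNSimple.CIT, not_forall] at hc
  obtain ⟨t, ht, hnp⟩ := hc
  have hab := (comm_or_pgroup hF Nat.prime_two ht).resolve_right hnp
  have ht1 := ne_one_of_prime_order Nat.prime_two ht
  have hcent : ∀ k ∈ cen t, k ≠ 1 → cen k = cen t := fun k hk hk1 =>
    (hF k t hk1 ht1 fun w hw => mem_cen.2 (hab w hw k hk)).symm
  refine ⟨cen t, ⟨?_, fun e => ht1 (Subgroup.mem_bot.1 (e ▸ self_mem t)), ?_,
    fun k hk hk1 => (hcent k hk hk1).le⟩, ?_, ?_⟩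
  · haveI : IsMulCommutative (cen t) := ⟨⟨fun u v => Subtype.ext (hab u u.2 v v.2)⟩⟩
    letI : CommGroup (cen t) := { (inferInstance : Group (cen t)) with mul_comm := mul_comm' }
    exact CommGroup.isNilpotent
  · intro l hl hld _
    obtain ⟨⟨v, hv⟩, hvl⟩ := exists_prime_orderOf_dvd_card' (G := cen t) l hld
    rw [Subgroup.orderOf_mk] at hvl
    have hv1 := ne_one_of_prime_order hl hvl
    obtain ⟨T, hT⟩ := (IsPGroup.of_card (p := l) (n := 1)
      (show Nat.card (Subgroup.zpowers v) = l ^ 1 by rw [Nat.card_zpowers, hvl, pow_one])).exists_le_sylow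
    haveI : Nontrivial T := Subgroup.nontrivial_iff_ne_bot _ |>.2 fun e =>
      hv1 (Subgroup.mem_bot.1 (e ▸ hT (Subgroup.mem_zpowers v)))
    haveI := T.isPGroup'.center_nontrivial
    obtain ⟨⟨⟨w, hwT⟩, hwc⟩, hw1⟩ := exists_ne (1 : Subgroup.center (T : Subgroup G))
    have hTw : (T : Subgroup G) ≤ cen w := fun y hy => mem_cen.2
      (congrArg Subtype.val (Subgroup.mem_center_iff.1 hwc ⟨y, hy⟩))
    have hwK : w ∈ cen t := hcent v hv hv1 ▸ mem_symm (hTw (hT (Subgroup.mem_zpowers v)))
    exact ⟨T, hTw.trans (hcent w hwK fun e => hw1 (Subtype.ext (Subtype.ext e))).le⟩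
  · exact ht ▸ Subgroup.orderOf_dvd_natCard _ (self_mem t)
  · intro htop
    haveI := Subgroup.normalizer_eq_top_iff.1 htop
    obtain ⟨a, b, hab'⟩ := hna
    rcases IsSimpleGroup.eq_bot_or_eq_top_of_normal (cen t) inferInstance with h | h
    · exact ht1 (Subgroup.mem_bot.1 (h ▸ self_mem t))
    · exact hab' (hab a (h ▸ Subgroup.mem_top a) b (h ▸ Subgroup.mem_top b))

theorem not_squareGrows (hF : ∀ x y : G, x ≠ 1 → y ≠ 1 → cen y ≤ cen x → cen y = cen x) :
    ¬ SquareGrows G := by
  rintro ⟨y, h, h1, h2, h3⟩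
  have hy : y ≠ 1 := fun e => h1 (by rw [e, mul_one])
  have := hF (y * y) y h1 hy fun w hw => by
    rw [← pow_two]
    exact le_cen_pow y 2 hw
  exact h3 (mem_cen.1 (this.symm ▸ mem_cen.2 h2 : h ∈ cen y))

theorem two_ne_zero_of_odd {F : Type} [Field F] [Fintype F] (h : Fintype.card F % 2 = 1) :
    (2 : F) ≠ 0 := by
  intro h2
  have hd : ringChar F ∣ 2 := (ringChar.spec F 2).1 (by exact_mod_cast h2)
  have := FiniteField.even_card_iff_char_two.1
    (((Nat.dvd_prime Nat.prime_two).1 hd).resolve_left (CharP.ringChar_ne_one))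
  omega

theorem classify [IsSimpleGroup G] (hna : ∃ a b : G, a * b ≠ b * a) (h3 : (sizes G).ncard = 3) :
    ∃ (m : ℕ) (F : Type) (_ : Field F) (_ : Fintype F), 2 ≤ m ∧ Fintype.card F = 2 ^ m ∧
      Nonempty (G ≃* Matrix.ProjectiveSpecialLinearGroup (Fin 2) F) := by
  classical
  have hF : ∀ x y : G, x ≠ 1 → y ≠ 1 → cen y ≤ cen x → cen y = cen x :=
    fun _ _ hx hy => no_containment hna h3 hx hy
  have hsmall : ∀ (F : Type) (_ : Field F) (_ : Fintype F),
      Nonempty (G ≃* Matrix.ProjectiveSpecialLinearGroup (Fin 2) F) →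
      Fintype.card F ≠ 2 ∧ Fintype.card F ≠ 3 := by
    intro F _ _ ⟨e⟩
    have hc := EPPO.card_psl_two F
    rw [← Nat.card_congr e.toEquiv] at hc
    have hns : ¬ Group.IsSolvable G := fun h => by
      obtain ⟨a, b, hab⟩ := hna
      exact hab (IsSimpleGroup.comm_iff_isSolvable.2 h a b)
    constructor <;> intro hq <;> rw [hq] at hc <;> norm_num at hc
    · exact hns (Char.isSolvable_of_card_pq 2 3 Nat.prime_two Nat.prime_three _ G hc ⟨1, 1, rfl⟩)
    · exact hns (Char.isSolvable_of_card_pq 2 3 Nat.prime_two Nat.prime_three _ G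
        (show Nat.card G = 12 by omega) ⟨2, 1, rfl⟩)
  rcases SzRecog.simple_list hna (tiHyp_or_cit hna hF) with
    ⟨F, i1, i2, hq, he⟩ | ⟨F, i1, i2, hq, ⟨e⟩⟩ | ⟨F, i1, i2, m, hm, hc, ⟨e⟩⟩
  · have hne := hsmall F i1 i2 he
    have hodd : Fintype.card F % 8 = 1 ∨ Fintype.card F % 8 = 7 → False := fun h8 =>
      not_squareGrows hF ((squareGrows_psl_two (F := F) (two_ne_zero_of_odd (by omega))
        (FiniteField.isSquare_two_iff.2 ⟨by omega, by omega⟩)).of_equiv he.some)
    rcases hq with h9 | ⟨n, hn⟩ | ⟨hp, k, hk⟩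
    · exact (hodd (by omega)).elim
    · refine ⟨n, F, i1, i2, ?_, hn, he⟩
      by_contra h
      interval_cases n
      · exact absurd hn (by have := Fintype.one_lt_card (α := F); omega)
      · exact hne.1 hn
    · rcases Nat.lt_or_ge k 3 with hk3 | hk3
      · have h5 : Fintype.card F = 5 := by
          have := hp.two_le
          rcases hk with hk | hk <;> interval_cases k <;> norm_num at hk <;> omega
        haveI := Fact.mk Nat.prime_two
        let F4 := GaloisField 2 2
        letI : Fintype F4 := Fintype.ofFinite F4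
        have h4 : Fintype.card F4 = 4 := by
          rw [← Nat.card_eq_fintype_card, GaloisField.card 2 2 two_ne_zero]; rfl
        haveI : IsSimpleGroup (Matrix.ProjectiveSpecialLinearGroup (Fin 2) F4) :=
          Matrix.ProjectiveSpecialLinearGroup.rank_two_simple (by rw [Nat.card_eq_fintype_card]; omega)
        have hG : Nat.card G = 60 := by
          have := EPPO.card_psl_two F
          rw [← Nat.card_congr he.some.toEquiv, h5] at this
          norm_num at this
          omega
        have h60 : Nat.card (Matrix.ProjectiveSpecialLinearGroup (Fin 2) F4) = 60 := by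
          have := EPPO.card_psl_two F4
          rw [h4] at this
          norm_num at this
          rw [Nat.card_eq_fintype_card]; exact this
        obtain ⟨e1⟩ := S0494.result (G := G) hG
        obtain ⟨e2⟩ := S0494.result (G := Matrix.ProjectiveSpecialLinearGroup (Fin 2) F4) h60
        exact ⟨2, F4, inferInstance, inferInstance, le_rfl, h4, ⟨e1.trans e2.symm⟩⟩
      · obtain ⟨d, rfl⟩ := Nat.exists_eq_add_of_le hk3
        rw [pow_add] at hk
        exact (hodd (by
          rcases hk with hk | hk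
          · left; omega
          · right; omega)).elim
  · exact absurd ((squareGrows_psl_three hq).of_equiv e) (not_squareGrows hF)
  · exact absurd ((squareGrows_sz ⟨hm, hc⟩).of_equiv (e.trans (Suzuki.minorEquiv ⟨hm, hc⟩).symm))
      (not_squareGrows hF)

end Cfsg.Agent.ConjRankThree
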