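import Cfsg.Agent.Lib.Classical.TwoByTwo
import Cfsg.Agent.Lib.ConjRankThree.Main

/-!
# `SL₂(2^m)` has three class sizes
-/

set_option autoImplicit false
set_option linter.style.haveILetI false
set_option linter.unusedSectionVars false

namespace Cfsg.Agent.ConjRankThree

open Matrix

universe u

variable {F : Type} [Field F] [Fintype F] [CharP F 2]

theorem eq_one_of_sq {r : F} (h : r * r = 1) : r = 1 := by
  have : (r + 1) * (r + 1) = 0 := by
    linear_combination h + (r + 1) * (CharTwo.two_eq_zero (R := F))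
  exact CharTwo.add_eq_zero.1 (mul_self_eq_zero.1 this)

theorem center_sl_two : Subgroup.center (SpecialLinearGroup (Fin 2) F) = ⊥ := by
  rw [Subgroup.eq_bot_iff_forall]
  intro A hA
  obtain ⟨r, hr, hs⟩ := Matrix.SpecialLinearGroup.mem_center_iff.1 hA
  rw [Fintype.card_fin, pow_two] at hr
  rw [eq_one_of_sq hr, map_one] at hs
  exact Subtype.ext hs.symm

/-- Solutions of `r² + τ r s + s² = 1`. -/
abbrev sol (τ : F) : Type := {p : F × F // p.1 ^ 2 + p.1 * p.2 * τ + p.2 ^ 2 = 1}

theorem isScalar_eq_one {M : SpecialLinearGroup (Fin 2) F} (h : TwoByTwo.IsScalar (M : Matrix (Fin 2) (Fin 2) F)) :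
    M = 1 := by
  refine Subgroup.mem_bot.1 ((center_sl_two (F := F)) ▸ Subgroup.mem_center_iff.2 fun w => Subtype.ext ?_)
  change (w : Matrix (Fin 2) (Fin 2) F) * M = M * w
  rw [TwoByTwo.isScalar_iff.1 h, mul_smul_comm, smul_mul_assoc, mul_one, one_mul]

theorem card_cen_sl (M : SpecialLinearGroup (Fin 2) F) (hM : M ≠ 1) :
    Nat.card (cen M) = Nat.card (sol (M : Matrix (Fin 2) (Fin 2) F).trace) := by
  have hns : ¬ TwoByTwo.IsScalar (M : Matrix (Fin 2) (Fin 2) F) := fun h => hM (isScalar_eq_one h)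
  have hdet : ∀ r s : F, (r • (1 : Matrix (Fin 2) (Fin 2) F) + s • (M : Matrix (Fin 2) (Fin 2) F)).det =
      r ^ 2 + r * s * (M : Matrix (Fin 2) (Fin 2) F).trace + s ^ 2 := fun r s => by
    rw [TwoByTwo.det_lin, M.2, mul_one]
  refine (Nat.card_congr (Equiv.ofBijective (fun p : sol (M : Matrix (Fin 2) (Fin 2) F).trace =>
    (⟨(⟨p.1.1 • (1 : Matrix (Fin 2) (Fin 2) F) + p.1.2 • (M : Matrix (Fin 2) (Fin 2) F),
      (hdet _ _).trans p.2⟩ : SpecialLinearGroup (Fin 2) F), mem_cen.2 (Subtype.ext (by
        change (_ : Matrix (Fin 2) (Fin 2) F) * _ = _ * _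
        simp only [add_mul, mul_add, smul_mul_assoc, mul_smul_comm, one_mul, mul_one]))⟩ : cen M))
    ⟨?_, ?_⟩)).symm
  · intro p q e
    have e' := congrArg (fun t : cen M => ((t : SpecialLinearGroup (Fin 2) F) : Matrix (Fin 2) (Fin 2) F)) e
    have := TwoByTwo.lin_injective hns e'
    exact Subtype.ext (Prod.ext this.1 this.2)
  · rintro ⟨N, hN⟩
    have hc : M * N = N * M := (mem_cen (G := SpecialLinearGroup (Fin 2) F).1 hN).symm
    obtain ⟨r, s, hrs⟩ := TwoByTwo.commute_eq hns
      (congrArg (fun A : SpecialLinearGroup (Fin 2) F => (A : Matrix (Fin 2) (Fin 2) F)) hc)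
    exact ⟨⟨(r, s), (hdet r s).symm.trans (hrs ▸ N.2)⟩, Subtype.ext (Subtype.ext hrs.symm)⟩

theorem card_sol_zero : Nat.card (sol (0 : F)) = Fintype.card F := by
  rw [← Nat.card_eq_fintype_card]
  refine Nat.card_congr (Equiv.ofBijective (fun p : sol (0 : F) => p.1.1) ⟨fun p q e => ?_, fun r => ?_⟩)
  · have key : ∀ p : sol (0 : F), p.1.1 + p.1.2 = 1 := fun p => eq_one_of_sq (by
      linear_combination p.2 + p.1.1 * p.1.2 * (CharTwo.two_eq_zero (R := F)))
    exact Subtype.ext (Prod.ext e (add_left_cancel ((key p).trans ((key q).symm.trans (congrArg (· + q.1.2) e.symm)))))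
  · exact ⟨⟨(r, r + 1), by linear_combination (r ^ 2 + r) * (CharTwo.two_eq_zero (R := F))⟩, rfl⟩

theorem card_sol {τ : F} : Nat.card (sol τ) + Nat.card {u : F // u ^ 2 + τ * u + 1 = 0} =
    Fintype.card F + 1 := by
  classical
  have hsqrt : Function.Surjective (fun s : F => s * s) :=
    Finite.surjective_of_injective fun s t e => by
      rcases mul_self_eq_mul_self_iff.1 e with h | h
      · exact h
      · rwa [CharTwo.neg_eq] at h
  -- the point at infinity and the non-roots
  have e1 : Nat.card (sol τ) = Nat.card (Option {u : F // ¬ (u ^ 2 + τ * u + 1 = 0)}) := by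
    refine Nat.card_congr (Equiv.ofBijective
      (fun p : sol τ => if h : p.1.2 = 0 then none else some ⟨p.1.1 / p.1.2, fun e => by
        have hp := p.2
        field_simp at e
        exact one_ne_zero (α := F) (by linear_combination e - hp)⟩) ⟨fun p q e => ?_, fun o => ?_⟩)
    · obtain ⟨⟨r, s⟩, hp⟩ := p
      obtain ⟨⟨r', s'⟩, hq⟩ := q
      dsimp only at e hp hq
      split_ifs at e with h h'
      · subst h; subst h'
        refine Subtype.ext (Prod.ext ?_ rfl)
        exact (eq_one_of_sq (by linear_combination hp)).trans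
          (eq_one_of_sq (show r' * r' = 1 by linear_combination hq)).symm
      · simp only [Option.some.injEq, Subtype.mk.injEq] at e
        have hs : s * s = s' * s' := by
          have hr : r = r / s * s := by field_simp
          have hr' : r' = r / s * s' := by rw [e]; field_simp
          generalize r / s = u at hr hr'
          subst hr hr'
          have hne : u ^ 2 + u * τ + 1 ≠ 0 := fun h0 => one_ne_zero (α := F) (by
            linear_combination -hp + s ^ 2 * h0)
          exact mul_right_cancel₀ hne (by linear_combination hp - hq)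
        have hs' : s = s' := by
          rcases mul_self_eq_mul_self_iff.1 hs with h1 | h1
          · exact h1
          · rwa [CharTwo.neg_eq] at h1
        subst hs'
        field_simp at e
        exact Subtype.ext (Prod.ext e rfl)
    · rcases o with _ | ⟨u, hu⟩
      · exact ⟨⟨(1, 0), by ring⟩, dif_pos rfl⟩
      · obtain ⟨s, hs⟩ := hsqrt (u ^ 2 + τ * u + 1)⁻¹
        have hs' : s * s = (u ^ 2 + τ * u + 1)⁻¹ := hs
        have hs0 : s ≠ 0 := fun e => inv_ne_zero hu (by rw [← hs', e, zero_mul])
        have h1 : s * s * (u ^ 2 + τ * u + 1) = 1 := by rw [hs', inv_mul_cancel₀ hu]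
        refine ⟨⟨(u * s, s), by linear_combination h1⟩, ?_⟩
        dsimp only
        rw [dif_neg hs0]
        simp [hs0]
  rw [e1, Finite.card_option, add_right_comm, ← Nat.card_sum,
    Nat.card_congr ((Equiv.sumComm _ _).trans (Equiv.sumCompl fun u : F => u ^ 2 + τ * u + 1 = 0)),
    Nat.card_eq_fintype_card]

theorem card_roots {τ : F} (hτ : τ ≠ 0) :
    Nat.card {u : F // u ^ 2 + τ * u + 1 = 0} = 0 ∨ Nat.card {u : F // u ^ 2 + τ * u + 1 = 0} = 2 := by
  rcases isEmpty_or_nonempty {u : F // u ^ 2 + τ * u + 1 = 0} with h | ⟨⟨α, hα⟩⟩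
  · exact Or.inl Nat.card_of_isEmpty
  · right
    have hα' : (α + τ) ^ 2 + τ * (α + τ) + 1 = 0 := by
      linear_combination hα + (α * τ + τ ^ 2) * (CharTwo.two_eq_zero (R := F))
    rw [Nat.card_eq_two_iff]
    refine ⟨⟨α, hα⟩, ⟨α + τ, hα'⟩, fun e => hτ ?_, ?_⟩
    · simpa using congrArg Subtype.val e
    · refine Set.eq_univ_of_forall fun ⟨β, hβ⟩ => ?_
      have : (β + α) * (β + α + τ) = 0 := by
        linear_combination hβ + hα + (α * β - 1) * (CharTwo.two_eq_zero (R := F))
      rcases mul_eq_zero.1 this with h | h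
      · exact Or.inl (Subtype.ext (CharTwo.add_eq_zero.1 h))
      · right
        refine Subtype.ext ?_
        rw [add_assoc] at h
        exact CharTwo.add_eq_zero.1 h

variable {m : ℕ}

theorem sizes_sl (hm : 2 ≤ m) (hq : Fintype.card F = 2 ^ m) :
    (sizes (SpecialLinearGroup (Fin 2) F)).ncard = 3 := by
  classical
  set q := Fintype.card F with hqd
  have hq4 : 4 ≤ q := hq ▸ Nat.pow_le_pow_right (n := 2) (by norm_num) hm
  have hcard : Nat.card (SpecialLinearGroup (Fin 2) F) = q * ((q + 1) * (q - 1)) := by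
    rw [TwoByTwo.card_sl_two, Nat.card_eq_fintype_card, ← hqd,
      show q ^ 2 - 1 = (q + 1) * (q - 1) by simpa using Nat.sq_sub_sq q 1]
  have hind : ∀ (M : SpecialLinearGroup (Fin 2) F) (hM : M ≠ 1),
      Nat.card (sol (M : Matrix (Fin 2) (Fin 2) F).trace) * ind M = q * ((q + 1) * (q - 1)) :=
    fun M hM => by rw [← card_cen_sl M hM, card_mul_ind, hcard]
  have comp : ∀ τ : F, ∃ M : SpecialLinearGroup (Fin 2) F,
      M ≠ 1 ∧ (M : Matrix (Fin 2) (Fin 2) F).trace = τ := by
    intro τ
    obtain ⟨M, hM⟩ : ∃ M : SpecialLinearGroup (Fin 2) F, (M : Matrix (Fin 2) (Fin 2) F) = !![0, 1; 1, τ] :=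
      ⟨⟨!![0, 1; 1, τ], by simp [Matrix.det_fin_two, CharTwo.neg_eq]⟩, rfl⟩
    refine ⟨M, fun e => ?_, by rw [hM]; simp [Matrix.trace_fin_two]⟩
    have := congrFun (congrFun hM 0) 1
    rw [e] at this
    simp at this
  -- a trace with roots and one without
  obtain ⟨α, hα0, hα1⟩ : ∃ α : F, α ≠ 0 ∧ α ≠ 1 := by
    by_contra h
    push Not at h
    have h2 : (Finset.univ : Finset F) ⊆ {0, 1} := fun u _ => by
      by_cases hu : u = 0
      · simp [hu]
      · simp [h u hu]
    have := (Finset.card_le_card h2).trans Finset.card_le_two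
    rw [Finset.card_univ] at this
    omega
  have hroot : ∀ {β : F}, β ≠ 0 → β ^ 2 + (β + β⁻¹) * β + 1 = 0 := fun {β} hβ => by
    field_simp
    linear_combination (β ^ 2 + 1) * (CharTwo.two_eq_zero (R := F))
  have hne0 : α + α⁻¹ ≠ 0 := fun h => hα1 (eq_one_of_sq (by
    rw [CharTwo.add_eq_zero] at h
    field_simp at h
    linear_combination h))
  obtain ⟨τ, hτ0, hτ⟩ : ∃ τ : F, τ ≠ 0 ∧ IsEmpty {u : F // u ^ 2 + τ * u + 1 = 0} := by
    by_contra h
    push Not at h
    have hsub : (Finset.univ.erase (0 : F)) ⊆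
        ((Finset.univ.erase (0 : F)).erase 1).image (fun u => u + u⁻¹) := by
      intro τ hτ
      have hτ0 := (Finset.mem_erase.1 hτ).1
      obtain ⟨⟨u, hu⟩⟩ := h τ hτ0
      have hu0 : u ≠ 0 := fun e => by simp [e] at hu
      have hu1 : u ≠ 1 := fun e => hτ0 (by
        subst e
        linear_combination hu - (CharTwo.two_eq_zero (R := F)))
      refine Finset.mem_image.2 ⟨u, by simp [hu0, hu1], ?_⟩
      field_simp
      linear_combination hu - τ * u * (CharTwo.two_eq_zero (R := F))
    have h1 := (Finset.card_le_card hsub).trans Finset.card_image_le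
    rw [Finset.card_erase_of_mem (a := (1 : F)) (by simp), Finset.card_erase_of_mem (Finset.mem_univ _),
      Finset.card_univ, ← hqd] at h1
    omega
  obtain ⟨M0, hM0, hT0⟩ := comp 0
  obtain ⟨M1, hM1, hT1⟩ := comp (α + α⁻¹)
  obtain ⟨M2, hM2, hT2⟩ := comp τ
  have e0 : ind M0 = (q + 1) * (q - 1) := by
    have h := hind M0 hM0
    rw [hT0, card_sol_zero, ← hqd] at h
    exact Nat.eq_of_mul_eq_mul_left (by omega) h
  have e1 : ind M1 = q * (q + 1) := by
    have h := hind M1 hM1
    have h2 := card_sol (τ := α + α⁻¹)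
    haveI : Nonempty {u : F // u ^ 2 + (α + α⁻¹) * u + 1 = 0} := ⟨⟨α, hroot hα0⟩⟩
    rw [(card_roots hne0).resolve_left Nat.card_pos.ne', ← hqd] at h2
    rw [hT1, show Nat.card (sol (α + α⁻¹)) = q - 1 by omega] at h
    exact Nat.eq_of_mul_eq_mul_left (by omega : 0 < q - 1) (h.trans (by ring))
  have e2 : ind M2 = q * (q - 1) := by
    have h := hind M2 hM2
    have h2 := card_sol (τ := τ)
    rw [Nat.card_of_isEmpty (α := {u : F // u ^ 2 + τ * u + 1 = 0}), ← hqd] at h2
    rw [hT2, show Nat.card (sol τ) = q + 1 by omega] at h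
    exact Nat.eq_of_mul_eq_mul_left (by omega : 0 < q + 1) (h.trans (by ring))
  have hall : sizes (SpecialLinearGroup (Fin 2) F) = {ind M0, ind M1, ind M2} := by
    ext v
    constructor
    · rintro ⟨M, hM, rfl⟩
      rw [center_sl_two, Subgroup.mem_bot] at hM
      have h := hind M hM
      by_cases ht : (M : Matrix (Fin 2) (Fin 2) F).trace = 0
      · left
        rw [ht, card_sol_zero, ← hqd] at h
        exact (Nat.eq_of_mul_eq_mul_left (by omega) h).trans e0.symm
      · have h2 := card_sol (τ := (M : Matrix (Fin 2) (Fin 2) F).trace)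
        rw [← hqd] at h2
        rcases card_roots ht with h0 | h0
        · right; right
          rw [show Nat.card (sol (M : Matrix (Fin 2) (Fin 2) F).trace) = q + 1 by omega] at h
          exact (Nat.eq_of_mul_eq_mul_left (by omega : 0 < q + 1) (h.trans (by ring))).trans e2.symm
        · right; left
          rw [show Nat.card (sol (M : Matrix (Fin 2) (Fin 2) F).trace) = q - 1 by omega] at h
          exact (Nat.eq_of_mul_eq_mul_left (by omega : 0 < q - 1) (h.trans (by ring))).trans e1.symm
    · rintro (rfl | rfl | rfl)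
      exacts [⟨M0, by rwa [center_sl_two, Subgroup.mem_bot], rfl⟩,
        ⟨M1, by rwa [center_sl_two, Subgroup.mem_bot], rfl⟩,
        ⟨M2, by rwa [center_sl_two, Subgroup.mem_bot], rfl⟩]
  rw [hall, Set.ncard_eq_three]
  refine ⟨_, _, _, ?_, ?_, ?_, rfl⟩
  · rw [e0, e1, mul_comm q]
    exact fun h => by have := Nat.eq_of_mul_eq_mul_left (by omega : 0 < q + 1) h; omega
  · rw [e0, e2]
    exact fun h => by have := Nat.eq_of_mul_eq_mul_right (by omega : 0 < q - 1) h; omega
  · rw [e1, e2]
    exact fun h => by have := Nat.eq_of_mul_eq_mul_left (by omega : 0 < q) h; omega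

theorem sizes_equiv {G : Type u} {H : Type} [Group G] [Group H] (e : G ≃* H) : sizes G = sizes H := by
  have key : ∀ x : G, (Subgroup.centralizer ({x} : Set G)).map e.toMonoidHom =
      Subgroup.centralizer ({e x} : Set H) := fun x => by
    ext w
    rw [Subgroup.mem_map_equiv, Subgroup.mem_centralizer_singleton_iff,
      Subgroup.mem_centralizer_singleton_iff]
    constructor
    · intro h
      simpa using congrArg e h
    · intro h
      simpa using congrArg e.symm h
  have hc : ∀ x : G, x ∈ Subgroup.center G ↔ e x ∈ Subgroup.center H := fun x => by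
    simp only [Subgroup.mem_center_iff]
    constructor
    · intro h w
      simpa using congrArg e (h (e.symm w))
    · intro h w
      exact e.injective (by simpa using h (e w))
  ext v
  constructor
  · rintro ⟨x, hx, rfl⟩
    exact ⟨e x, fun h => hx ((hc x).2 h), by rw [← key]; exact (Subgroup.index_map_equiv _ e).symm⟩
  · rintro ⟨y, hy, rfl⟩
    refine ⟨e.symm y, fun h => hy ?_, ?_⟩
    · simpa using (hc _).1 h
    · refine Eq.trans ?_ (Subgroup.index_map_equiv _ e)
      rw [show Subgroup.map (e : G →* H) (Subgroup.centralizer {e.symm y}) = _ from key _,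
        MulEquiv.apply_symm_apply]

end Cfsg.Agent.ConjRankThree
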