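import Mathlib.GroupTheory.Sylow
import Mathlib.GroupTheory.Index
import Mathlib.GroupTheory.Subgroup.Center
import Cfsg.Agent.Lib.Char.Burnside

/-!
# Class sizes with three values: general lemmas and the product of two centralisers
-/

set_option autoImplicit false
set_option linter.style.haveILetI false
set_option linter.unusedSectionVars false
set_option linter.unusedVariables false

namespace Cfsg.Agent.ConjRankThree

universe u

variable {G : Type u} [Group G]

/-- The centraliser of one element. -/
abbrev cen (g : G) : Subgroup G := Subgroup.centralizer ({g} : Set G)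

/-- The class size of one element. -/
noncomputable abbrev ind (g : G) : ℕ := (cen g).index

theorem mem_cen {g h : G} : h ∈ cen g ↔ h * g = g * h := Subgroup.mem_centralizer_singleton_iff

theorem self_mem (g : G) : g ∈ cen g := mem_cen.2 rfl

theorem mem_symm {g h : G} (e : h ∈ cen g) : g ∈ cen h := mem_cen.2 (mem_cen.1 e).symm

theorem le_cen_pow (g : G) (m : ℕ) : cen g ≤ cen (g ^ m) := fun h hh =>
  mem_cen.2 (Commute.pow_right (mem_cen.1 hh) m)

theorem cen_inv (g : G) : cen g⁻¹ = cen g := by
  ext h
  rw [mem_cen, mem_cen]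
  exact ⟨fun e => by simpa using (Commute.inv_right (show Commute h g⁻¹ from e)).eq,
    fun e => (Commute.inv_right (show Commute h g from e)).eq⟩

theorem cen_conj (g w : G) : cen (w * g * w⁻¹) = (cen g).map (MulAut.conj w).toMonoidHom := by
  ext h
  rw [Subgroup.mem_map]
  constructor
  · intro hh
    refine ⟨w⁻¹ * h * w, mem_cen.2 ?_, by simp [mul_assoc]⟩
    calc w⁻¹ * h * w * g = w⁻¹ * (h * (w * g * w⁻¹)) * w := by group
      _ = w⁻¹ * ((w * g * w⁻¹) * h) * w := by rw [mem_cen.1 hh]
      _ = g * (w⁻¹ * h * w) := by group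
  · rintro ⟨k, hk, rfl⟩
    simp only [MulEquiv.coe_toMonoidHom, MulAut.conj_apply]
    rw [mem_cen]
    calc w * k * w⁻¹ * (w * g * w⁻¹) = w * (k * g) * w⁻¹ := by group
      _ = w * (g * k) * w⁻¹ := by rw [mem_cen.1 hk]
      _ = w * g * w⁻¹ * (w * k * w⁻¹) := by group

theorem ind_conj (g w : G) : ind (w * g * w⁻¹) = ind g := by
  rw [ind, cen_conj]
  exact Subgroup.index_map_equiv (cen g) (MulAut.conj w)

theorem ind_mul_comm (u v : G) : ind (v * u) = ind (u * v) := by
  rw [show v * u = v * (u * v) * v⁻¹ by group, ind_conj]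

theorem ind_inv (g : G) : ind g⁻¹ = ind g := by rw [ind, cen_inv]

theorem conj_mem_cen {u v : G} (e : u ∈ cen v) (w : G) : w * u * w⁻¹ ∈ cen (w * v * w⁻¹) := by
  rw [cen_conj]
  exact ⟨u, e, rfl⟩

/-- Commuting elements of coprime order are powers of their product. -/
theorem cen_mul_le {u v : G} (hc : u * v = v * u) (h : (orderOf u).Coprime (orderOf v)) :
    cen (u * v) ≤ cen u ⊓ cen v := by
  intro w hw
  have hu : w ∈ cen u := by
    obtain ⟨m, hm⟩ : ∃ m : ℕ, (u ^ orderOf v) ^ m = u := exists_pow_eq_self_of_coprime h.symm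
    have := le_cen_pow _ m (le_cen_pow _ (orderOf v) hw)
    rwa [(show Commute u v from hc).mul_pow, pow_orderOf_eq_one, mul_one, hm] at this
  have hv : w ∈ cen v := by
    obtain ⟨m, hm⟩ : ∃ m : ℕ, (v ^ orderOf u) ^ m = v := exists_pow_eq_self_of_coprime h
    have := le_cen_pow _ m (le_cen_pow _ (orderOf u) hw)
    rwa [(show Commute u v from hc).mul_pow, pow_orderOf_eq_one, one_mul, hm] at this
  exact ⟨hu, hv⟩

section finite

variable [Finite G]

theorem index_pos (g : G) : 0 < ind g := Nat.pos_of_ne_zero Subgroup.index_ne_zero_of_finite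

theorem card_mul_ind (g : G) : Nat.card (cen g) * ind g = Nat.card G := (cen g).card_mul_index

theorem ind_dvd {g h : G} (e : cen g ≤ cen h) : ind h ∣ ind g := Subgroup.index_dvd_of_le e

theorem eq_of_le_of_ind {g h : G} (e : cen g ≤ cen h) (hi : ind g = ind h) : cen g = cen h := by
  refine Subgroup.eq_of_le_of_card_ge e (le_of_eq ?_)
  have h1 := card_mul_ind g
  rw [hi, ← card_mul_ind h] at h1
  exact (Nat.eq_of_mul_eq_mul_right (index_pos h) h1).symm

/-- A power of prime order of a nontrivial element. -/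
theorem exists_prime_pow {g : G} (hg : g ≠ 1) :
    ∃ (p m : ℕ), p.Prime ∧ p ∣ orderOf g ∧ orderOf (g ^ m) = p := by
  have h1 : orderOf g ≠ 1 := fun h => hg (orderOf_eq_one_iff.1 h)
  have hp := Nat.minFac_prime h1
  exact ⟨_, _, hp, Nat.minFac_dvd _, orderOf_pow_orderOf_div (isOfFinOrder_of_finite g).orderOf_pos.ne'
    (Nat.minFac_dvd _)⟩

theorem ne_one_of_prime_order {g : G} {p : ℕ} (hp : p.Prime) (h : orderOf g = p) : g ≠ 1 := by
  rintro rfl
  rw [orderOf_one] at h
  exact hp.ne_one h.symm

/-- Centralisers of coprime index give a factorisation. -/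
theorem exists_factor (u v : G) (h : (ind u).Coprime (ind v)) (g : G) :
    ∃ j ∈ cen v, ∃ i ∈ cen u, g = j * i := by
  classical
  have hsurj : Function.Surjective (fun j : cen v => ((j : G) : G ⧸ cen u)) := by
    have hd : ind u ∣ (cen u).relIndex (cen v) := by
      have h1 : (cen u ⊓ cen v).index = (cen u).relIndex (cen v) * ind v := by
        rw [← Subgroup.inf_relIndex_right]
        exact (Subgroup.relIndex_mul_index inf_le_right).symm
      have h2 : ind u ∣ (cen u).relIndex (cen v) * ind v :=
        h1 ▸ Subgroup.index_dvd_of_le inf_le_left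
      exact h.dvd_of_dvd_mul_right h2
    let f : (cen v) ⧸ (cen u).subgroupOf (cen v) → G ⧸ cen u :=
      Quotient.lift (fun j : cen v => ((j : G) : G ⧸ cen u)) (by
        intro a b hab
        have hab' := QuotientGroup.leftRel_apply.1 hab
        rw [Subgroup.mem_subgroupOf] at hab'
        exact QuotientGroup.eq.2 (by simpa using hab'))
    have hinj : Function.Injective f := by
      intro a b
      induction a using QuotientGroup.induction_on with
      | H a =>
        induction b using QuotientGroup.induction_on with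
        | H b =>
          intro e
          have e' := QuotientGroup.eq.1 (show ((a : G) : G ⧸ cen u) = (b : G) from e)
          exact QuotientGroup.eq.2 (Subgroup.mem_subgroupOf.2 (by simpa using e'))
    have hle : Nat.card (G ⧸ cen u) ≤ Nat.card ((cen v) ⧸ (cen u).subgroupOf (cen v)) := by
      refine Nat.le_of_dvd Nat.card_pos ?_
      exact hd
    have hbij : Function.Bijective f := hinj.bijective_of_nat_card_le hle
    intro q
    obtain ⟨a, ha⟩ := hbij.2 q
    induction a using QuotientGroup.induction_on with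
    | H a => exact ⟨a, ha⟩
  obtain ⟨j, hj⟩ := hsurj (g : G ⧸ cen u)
  exact ⟨j, j.2, (j : G)⁻¹ * g, QuotientGroup.eq.1 hj, by group⟩

/-- Elements of coprime class sizes commute with no conjugate of one another, in a simple group. -/
theorem not_commute [IsSimpleGroup G] (hZ : Subgroup.center G = ⊥) {u v : G} (hu : u ≠ 1) (hv : v ≠ 1)
    (h : (ind u).Coprime (ind v)) : u ∉ cen v := by
  intro hm
  have hle : Subgroup.normalClosure ({u} : Set G) ≤ cen v := by
    rw [Subgroup.normalClosure, Subgroup.closure_le]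
    intro w hw
    obtain ⟨a, ha, hc⟩ := Group.mem_conjugatesOfSet_iff.1 hw
    rw [Set.mem_singleton_iff] at ha
    subst ha
    obtain ⟨g, rfl⟩ := isConj_iff.1 hc
    obtain ⟨j, hj, i, hi, rfl⟩ := exists_factor a v h g
    rw [show j * i * a * (j * i)⁻¹ = j * (i * a) * i⁻¹ * j⁻¹ by group, mem_cen.1 hi,
      show j * (a * i) * i⁻¹ * j⁻¹ = j * a * j⁻¹ by group]
    exact (cen v).mul_mem ((cen v).mul_mem hj hm) ((cen v).inv_mem hj)
  have hne : Subgroup.normalClosure ({u} : Set G) ≠ ⊥ := fun e => hu
    (Subgroup.mem_bot.1 (e ▸ Subgroup.subset_normalClosure (Set.mem_singleton u)))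
  have htop : Subgroup.normalClosure ({u} : Set G) = ⊤ :=
    (IsSimpleGroup.eq_bot_or_eq_top_of_normal _ Subgroup.normalClosure_normal).resolve_left hne
  refine hv (Subgroup.mem_bot.1 (hZ ▸ Subgroup.mem_center_iff.2 fun g => ?_))
  exact mem_cen.1 (hle (htop ▸ Subgroup.mem_top g))

/-- With coprime class sizes, all products of conjugates are conjugate. -/
theorem isConj_mul_conj (u v : G) (h : (ind u).Coprime (ind v)) (g : G) :
    IsConj (u * v) (u * (g * v * g⁻¹)) := by
  obtain ⟨j, hj, i, hi, e⟩ := exists_factor v u h.symm g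
  refine isConj_iff.2 ⟨j, ?_⟩
  rw [e, show j * i * v * (j * i)⁻¹ = j * (i * v) * i⁻¹ * j⁻¹ by group, mem_cen.1 hi,
    show j * (v * i) * i⁻¹ * j⁻¹ = j * v * j⁻¹ by group]
  rw [show u * (j * v * j⁻¹) = (u * j) * v * j⁻¹ by group, ← mem_cen.1 hj]
  group

/-- A class of coprime size times another class is not a class of the same size. -/
theorem ind_mul_ne [IsSimpleGroup G] (hZ : Subgroup.center G = ⊥) {u v : G} (hu : u ≠ 1) (hv : v ≠ 1)
    (h : (ind u).Coprime (ind v)) : ind (u * v) ≠ ind v := by
  classical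
  intro he
  have := Fintype.ofFinite G
  set Z := Char.classFinset v with hZdef
  -- left translation by any conjugate of `u` maps the class of `v` onto one class
  have hmap : ∀ g : G, Z.image (fun z => g * u * g⁻¹ * z) = Char.classFinset (u * v) := by
    intro g
    refine Finset.eq_of_subset_of_card_le (fun w hw => ?_) ?_
    · obtain ⟨z, hz, rfl⟩ := Finset.mem_image.1 hw
      obtain ⟨k, rfl⟩ := isConj_iff.1 (Char.mem_classFinset.1 hz)
      refine Char.mem_classFinset.2 ((isConj_mul_conj u v h (g⁻¹ * k)).trans (isConj_iff.2 ⟨g, ?_⟩))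
      group
    · rw [Finset.card_image_of_injective _ (mul_right_injective _), Char.card_classFinset,
        Char.card_classFinset]
      exact le_of_eq he
  let S : Subgroup G :=
    { carrier := {s | Z.image (fun z => s * z) = Z}
      one_mem' := by
        simp only [Set.mem_ofPred_eq, one_mul]
        exact Finset.image_id'
      mul_mem' := fun {a b} ha hb => by
        simp only [Set.mem_ofPred_eq] at ha hb ⊢
        rw [show (fun z => a * b * z) = (fun z => a * z) ∘ (fun z => b * z) from
          funext fun z => mul_assoc a b z, ← Finset.image_image, hb, ha]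
      inv_mem' := fun {a} ha => by
        simp only [Set.mem_ofPred_eq] at ha ⊢
        conv_lhs => rw [← ha, Finset.image_image]
        rw [show ((fun z => a⁻¹ * z) ∘ fun z => a * z) = id from funext fun z => inv_mul_cancel_left a z,
          Finset.image_id] }
  haveI hSn : S.Normal := by
    refine ⟨fun s hs w => ?_⟩
    change Z.image (fun z => w * s * w⁻¹ * z) = Z
    have hs' : Z.image (fun z => s * z) = Z := hs
    refine Finset.eq_of_subset_of_card_le (fun y hy => ?_) ?_
    · obtain ⟨z, hz, rfl⟩ := Finset.mem_image.1 hy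
      have hz' : w⁻¹ * z * w ∈ Z := Char.mem_classFinset.2
        ((Char.mem_classFinset.1 hz).trans (isConj_iff.2 ⟨w⁻¹, by group⟩))
      have h2 : s * (w⁻¹ * z * w) ∈ Z := hs' ▸ Finset.mem_image.2 ⟨_, hz', rfl⟩
      exact Char.mem_classFinset.2 ((Char.mem_classFinset.1 h2).trans (isConj_iff.2 ⟨w, by group⟩))
    · rw [Finset.card_image_of_injective _ (mul_right_injective _)]
  have hmem : ∀ g : G, u⁻¹ * (g * u * g⁻¹) ∈ S := by
    intro g
    change Z.image (fun z => u⁻¹ * (g * u * g⁻¹) * z) = Z
    have h1 := hmap g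
    have h0 := hmap 1
    simp only [one_mul, inv_one, mul_one] at h0
    rw [show (fun z => u⁻¹ * (g * u * g⁻¹) * z) = (fun z => u⁻¹ * z) ∘ (fun z => g * u * g⁻¹ * z) from
      funext fun z => by simp [mul_assoc], ← Finset.image_image, h1, ← h0, Finset.image_image]
    simp [Function.comp_def]
  rcases IsSimpleGroup.eq_bot_or_eq_top_of_normal S hSn with hb | ht
  · refine hu (Subgroup.mem_bot.1 (hZ ▸ Subgroup.mem_center_iff.2 fun g => ?_))
    have := Subgroup.mem_bot.1 (hb ▸ hmem g)
    rw [inv_mul_eq_one, eq_mul_inv_iff_mul_eq] at this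
    exact this.symm
  · have hv1 : v⁻¹ ∈ S := ht ▸ Subgroup.mem_top _
    have h1 : (1 : G) ∈ Z := by
      have hz : Z.image (fun z => v⁻¹ * z) = Z := hv1
      rw [← hz]
      exact Finset.mem_image.2 ⟨v, Char.mem_classFinset.2 (IsConj.refl v), inv_mul_cancel v⟩
    exact hv (isConj_one_left.1 (Char.mem_classFinset.1 h1))

/-- A prime avoids some class size. -/
theorem exists_not_dvd (hZ : Subgroup.center G = ⊥) {p : ℕ} (hp : p.Prime) (hd : p ∣ Nat.card G) :
    ∃ g : G, g ≠ 1 ∧ ¬ p ∣ ind g ∧ ∃ k, orderOf g = p ^ k := by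
  haveI := Fact.mk hp
  obtain ⟨P⟩ : Nonempty (Sylow p G) := inferInstance
  haveI : Nontrivial (P : Subgroup G) := by
    rw [Subgroup.nontrivial_iff_ne_bot]
    intro e
    have := P.dvd_card_of_dvd_card hd
    rw [e, Subgroup.card_bot] at this
    exact hp.not_dvd_one this
  haveI := P.isPGroup'.center_nontrivial
  obtain ⟨⟨⟨w, hwP⟩, hwc⟩, hw1⟩ := exists_ne (1 : Subgroup.center (P : Subgroup G))
  refine ⟨w, fun e => hw1 (Subtype.ext (Subtype.ext e)), fun h => ?_, ?_⟩
  · have hle : (P : Subgroup G) ≤ cen w := fun y hy => mem_cen.2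
      (congrArg Subtype.val (Subgroup.mem_center_iff.1 hwc ⟨y, hy⟩))
    exact P.not_dvd_index (h.trans (Subgroup.index_dvd_of_le hle))
  · obtain ⟨k, hk⟩ := IsPGroup.iff_orderOf.1 P.isPGroup' ⟨w, hwP⟩
    exact ⟨k, by rwa [Subgroup.orderOf_mk] at hk⟩

end finite

end Cfsg.Agent.ConjRankThree
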