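import Mathlib.GroupTheory.FiniteAbelian.Duality
import Cfsg.Agent.Lib.Char.Complete
import Cfsg.Agent.Lib.Char.Orbit

/-!
# Linear characters of a finite commutative group
-/

set_option autoImplicit false
set_option linter.style.haveILetI false
set_option linter.unusedSectionVars false

open scoped ComplexConjugate

namespace Cfsg.Agent.ConjRankThree

universe u

variable {K : Type u} [Group K] [Fintype K]

/-- A linear character as a function. -/
noncomputable abbrev lin (l : K →* ℂˣ) : K → ℂ := fun k => (l k : ℂ)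

theorem lin_inj {l l' : K →* ℂˣ} (h : lin l = lin l') : l = l' :=
  MonoidHom.ext fun k => Units.ext (congrFun h k)

open scoped Classical in
theorem classInner_lin (l l' : K →* ℂˣ) :
    Cfsg.classInner (lin l) (lin l') = if l = l' then 1 else 0 := by
  split_ifs with h
  · subst h
    exact Char.classInner_self_irr (Char.isIrrCharacter_linear l)
  · exact Char.classInner_irr_of_ne (Char.isIrrCharacter_linear l) (Char.isIrrCharacter_linear l')
      fun e => h (lin_inj e)

/-- A function whose nontrivial Fourier coefficients are equal is constant off the identity. -/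
theorem const_of_mult (hcomm : ∀ x y : K, x * y = y * x) (f : K → ℂ) (m : ℂ)
    (h : ∀ l : K →* ℂˣ, l ≠ 1 → Cfsg.classInner f (lin l) = m) {k : K} (hk : k ≠ 1) :
    f k = Cfsg.classInner f (lin (1 : K →* ℂˣ)) - m := by
  classical
  set C := Cfsg.classInner f (lin (1 : K →* ℂˣ)) - m with hC
  set d : K → ℂ := fun y => if y = 1 then m * (Nat.card K : ℂ) else 0 with hd
  have hcf : ∀ φ : K → ℂ, Cfsg.IsClassFunction K φ := fun φ y w => by
    rw [hcomm w y, mul_inv_cancel_right]
  have hdl : ∀ l : K →* ℂˣ, Cfsg.classInner d (lin l) = m := by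
    intro l
    have hne : (Nat.card K : ℂ) ≠ 0 := Nat.cast_ne_zero.mpr Nat.card_pos.ne'
    simp only [Cfsg.classInner, hd, ite_mul, zero_mul, Finset.sum_ite_eq', Finset.mem_univ, if_true,
      lin, map_one, Units.val_one, mul_one]
    field_simp
  have hg : f - d - C • lin (1 : K →* ℂˣ) = 0 := by
    refine Char.eq_zero_of_orthogonal (hcf _) fun ψ hψ => ?_
    obtain ⟨l, rfl⟩ := Char.exists_hom_of_degree_one (Char.IsIrrCharacter.isCharacter hψ)
      (Char.degree_one_of_comm hcomm hψ)
    rw [Char.classInner_sub_left, Char.classInner_sub_left, Char.classInner_smul_left,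
      show Cfsg.classInner d (fun g => (l g : ℂ)) = m from hdl l]
    rw [show Cfsg.classInner (lin (1 : K →* ℂˣ)) (fun g => (l g : ℂ)) = _ from classInner_lin 1 l]
    by_cases hl : l = 1
    · subst hl
      rw [if_pos rfl, hC]
      ring
    · rw [if_neg (Ne.symm hl), show Cfsg.classInner f (fun g => (l g : ℂ)) = m from h l hl]
      ring
  have := congrFun hg k
  simpa [hd, hk, lin, sub_eq_zero] using this

/-- A function fixed by a coprime power map has equal coefficients at a character and its power. -/
theorem mult_pow (f : K → ℂ) {j : ℕ} (hj : (Nat.card K).Coprime j) (hf : ∀ k, f (k ^ j) = f k)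
    (l : K →* ℂˣ) : Cfsg.classInner f (lin (l ^ j)) = Cfsg.classInner f (lin l) := by
  simp only [Cfsg.classInner]
  congr 1
  refine Fintype.sum_equiv (powCoprime hj) _ _ fun k => ?_
  change f k * conj ((((l ^ j) k : ℂˣ)) : ℂ) = f (k ^ j) * conj ((l (k ^ j) : ℂˣ) : ℂ)
  rw [hf k, MonoidHom.pow_apply, map_pow]

/-- The group of linear characters contains an element of order `p * q`. -/
theorem exists_lin_order (hcomm : ∀ x y : K, x * y = y * x) {p q : ℕ} (hp : p.Prime) (hq : q.Prime)
    (hne : p ≠ q) (hpK : p ∣ Nat.card K) (hqK : q ∣ Nat.card K) :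
    ∃ l : K →* ℂˣ, orderOf l = p * q := by
  letI : CommGroup K := { ‹Group K› with mul_comm := hcomm }
  haveI : NeZero (Monoid.exponent K) := ⟨Monoid.exponent_ne_zero_of_finite⟩
  obtain ⟨e⟩ := CommGroup.monoidHom_mulEquiv_of_hasEnoughRootsOfUnity K ℂ
  haveI := Fact.mk hp
  haveI := Fact.mk hq
  obtain ⟨u, hu⟩ := exists_prime_orderOf_dvd_card' (G := K) p hpK
  obtain ⟨v, hv⟩ := exists_prime_orderOf_dvd_card' (G := K) q hqK
  refine ⟨e.symm (u * v), ?_⟩
  rw [MulEquiv.orderOf_eq,
    (Commute.all u v).orderOf_mul_eq_mul_orderOf_of_coprime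
      (by rw [hu, hv]; exact (Nat.coprime_primes hp hq).2 hne), hu, hv]

end Cfsg.Agent.ConjRankThree
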