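import Mathlib.GroupTheory.Transfer
import Cfsg.Agent.Lib.ConjRankThree.Basic

/-!
# Class sizes `a ∣ b` and `c`: the group is the product of the two centralisers
-/

set_option autoImplicit false
set_option linter.style.haveILetI false
set_option linter.unusedSectionVars false

namespace Cfsg.Agent.ConjRankThree

universe u

variable {G : Type u} [Group G] [Finite G]

/-- Three class sizes `a`, `b`, `c` with `a` a proper divisor of `b`. -/
structure Ctx (G : Type u) [Group G] (a b c : ℕ) : Prop where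
  simple : IsSimpleGroup G
  center : Subgroup.center G = ⊥
  vals : ∀ g : G, g ≠ 1 → ind g = a ∨ ind g = b ∨ ind g = c
  one_lt_a : 1 < a
  one_lt_c : 1 < c
  ab : a < b
  adiv : a ∣ b
  cop : a.Coprime c
  exa : ∃ x : G, x ≠ 1 ∧ ind x = a
  exc : ∃ z : G, z ≠ 1 ∧ ind z = c

variable {a b c : ℕ} (hh : Ctx G a b c)

include hh

theorem Ctx.not_b_dvd_c : ¬ b ∣ c := fun h =>
  hh.one_lt_a.ne' (Nat.eq_one_of_dvd_coprimes hh.cop dvd_rfl (hh.adiv.trans h))

theorem Ctx.a_ne_b : a ≠ b := hh.ab.ne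

theorem Ctx.not_b_dvd_a : ¬ b ∣ a := fun h =>
  absurd (Nat.le_of_dvd (by linarith [hh.one_lt_a]) h) (not_le.2 hh.ab)

theorem Ctx.b_ne_c : b ≠ c := fun h => hh.not_b_dvd_c (h ▸ dvd_rfl)

theorem Ctx.a_ne_c : a ≠ c := fun h =>
  hh.one_lt_a.ne' (Nat.eq_one_of_dvd_coprimes hh.cop dvd_rfl (h ▸ dvd_rfl))

theorem Ctx.eq_a {g h : G} (hg : g ≠ 1) (e : cen h ≤ cen g) (hi : ind h = a) : cen h = cen g := by
  refine eq_of_le_of_ind e ?_
  have hd := ind_dvd e
  rw [hi] at hd ⊢
  rcases hh.vals g hg with h1 | h1 | h1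
  · exact h1.symm
  · exact absurd (h1 ▸ hd) hh.not_b_dvd_a
  · exact absurd (Nat.eq_one_of_dvd_coprimes hh.cop (h1 ▸ hd) dvd_rfl) hh.one_lt_c.ne'

theorem Ctx.eq_c {g h : G} (hg : g ≠ 1) (e : cen h ≤ cen g) (hi : ind h = c) : cen h = cen g := by
  refine eq_of_le_of_ind e ?_
  have hd := ind_dvd e
  rw [hi] at hd ⊢
  rcases hh.vals g hg with h1 | h1 | h1
  · exact absurd (Nat.eq_one_of_dvd_coprimes hh.cop dvd_rfl (h1 ▸ hd)) hh.one_lt_a.ne'
  · exact absurd (h1 ▸ hd) hh.not_b_dvd_c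
  · exact h1.symm

theorem Ctx.exists_prime_a :
    ∃ (x : G) (r : ℕ), r.Prime ∧ orderOf x = r ∧ x ≠ 1 ∧ ind x = a := by
  obtain ⟨x, hx, hxa⟩ := hh.exa
  obtain ⟨p, m, hp, -, hm⟩ := exists_prime_pow hx
  have hne := ne_one_of_prime_order hp hm
  refine ⟨x ^ m, p, hp, hm, hne, ?_⟩
  rw [ind, ← hh.eq_a hne (le_cen_pow x m) hxa]
  exact hxa

theorem Ctx.exists_prime_c :
    ∃ (z : G) (s : ℕ), s.Prime ∧ orderOf z = s ∧ z ≠ 1 ∧ ind z = c := by
  obtain ⟨z, hz, hzc⟩ := hh.exc
  obtain ⟨p, m, hp, -, hm⟩ := exists_prime_pow hz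
  have hne := ne_one_of_prime_order hp hm
  refine ⟨z ^ m, p, hp, hm, hne, ?_⟩
  rw [ind, ← hh.eq_c hne (le_cen_pow z m) hzc]
  exact hzc

theorem Ctx.not_comm {u v : G} (hu : u ≠ 1) (hv : v ≠ 1) (hua : ind u = a) (hvc : ind v = c) :
    u ∉ cen v ∧ v ∉ cen u := by
  haveI := hh.simple
  have hcop : (ind u).Coprime (ind v) := by rw [hua, hvc]; exact hh.cop
  exact ⟨not_commute hh.center hu hv hcop, not_commute hh.center hv hu hcop.symm⟩

theorem Ctx.prime_ne {x z : G} {r s : ℕ} (hr : r.Prime) (hs : s.Prime) (hxr : orderOf x = r)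
    (hzs : orderOf z = s) (hxa : ind x = a) (hzc : ind z = c) : r ≠ s := by
  rintro rfl
  haveI := Fact.mk hr
  have hx := ne_one_of_prime_order hr hxr
  have hz := ne_one_of_prime_order hs hzs
  -- a conjugate of `v` lies in the centraliser of `u`
  have key : ∀ u v : G, orderOf v = r → ¬ r ∣ ind u → ∃ w : G, w * v * w⁻¹ ∈ cen u := by
    intro u v hv hnd
    obtain ⟨P⟩ : Nonempty (Sylow r (cen u)) := inferInstance
    have hv' : IsPGroup r (Subgroup.zpowers v) :=
      IsPGroup.of_card (n := 1) (by rw [Nat.card_zpowers, hv, pow_one])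
    obtain ⟨Q, hQ⟩ := hv'.exists_le_sylow
    obtain ⟨S, hS⟩ := (P.isPGroup'.map (cen u).subtype).exists_le_sylow
    have hSu : (S : Subgroup G) = (P : Subgroup (cen u)).map (cen u).subtype := by
      refine (Subgroup.eq_of_le_of_card_ge hS (le_of_eq ?_)).symm
      rw [Subgroup.card_subtype, S.card_eq_multiplicity, P.card_eq_multiplicity, ← card_mul_ind u,
        Nat.factorization_mul Nat.card_pos.ne' (index_pos u).ne', Finsupp.add_apply,
        Nat.factorization_eq_zero_of_not_dvd hnd, add_zero]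
    obtain ⟨w, hw⟩ := MulAction.exists_smul_eq G Q S
    refine ⟨w, ?_⟩
    have : w * v * w⁻¹ ∈ (S : Subgroup G) := by
      rw [← hw, Sylow.coe_subgroup_smul]
      exact ⟨v, hQ (Subgroup.mem_zpowers v), rfl⟩
    rw [hSu] at this
    exact Subgroup.map_subtype_le _ this
  have hnot : ¬ (r ∣ a ∧ r ∣ c) := fun h =>
    hr.ne_one (Nat.eq_one_of_dvd_coprimes hh.cop h.1 h.2)
  by_cases ha : r ∣ a
  · obtain ⟨w, hw⟩ := key z x hxr (by rw [hzc]; exact fun h => hnot ⟨ha, h⟩)
    exact (hh.not_comm (by simpa using hx) hz (by rw [ind_conj, hxa]) hzc).1 hw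
  · obtain ⟨w, hw⟩ := key x z hzs (by rw [hxa]; exact ha)
    exact (hh.not_comm hx (by simpa using hz) hxa (by rw [ind_conj, hzc])).2 hw

theorem Ctx.meet_trivial {u v : G} (hu : u ≠ 1) (hv : v ≠ 1) (hua : ind u = a) (hvc : ind v = c) :
    cen u ⊓ cen v = ⊥ := by
  rw [Subgroup.eq_bot_iff_forall]
  intro w hw
  by_contra hw1
  obtain ⟨p, m, hp, -, hm⟩ := exists_prime_pow hu
  have hx1 := ne_one_of_prime_order hp hm
  have hxe := hh.eq_a hx1 (le_cen_pow u m) hua
  have hxa : ind (u ^ m) = a := by rw [ind, ← hxe]; exact hua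
  obtain ⟨s, m', hs, -, hm'⟩ := exists_prime_pow hv
  have hz1 := ne_one_of_prime_order hs hm'
  have hze := hh.eq_c hz1 (le_cen_pow v m') hvc
  have hzc : ind (v ^ m') = c := by rw [ind, ← hze]; exact hvc
  have hne := hh.prime_ne hp hs hm hm' hxa hzc
  obtain ⟨q, k, hq, -, hk⟩ := exists_prime_pow hw1
  have hy1 := ne_one_of_prime_order hq hk
  set y := w ^ k
  set x := u ^ m
  set z := v ^ m'
  have hyx : y ∈ cen x := hxe ▸ (cen u).pow_mem hw.1 k
  have hyz : y ∈ cen z := hze ▸ (cen v).pow_mem hw.2 k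
  have hyb : ind y = b := by
    rcases hh.vals y hy1 with h | h | h
    · exact absurd hyz (hh.not_comm hy1 hz1 h hzc).1
    · exact h
    · exact absurd hyx (hh.not_comm hx1 hy1 hxa h).2
  -- multiply `y` by one of `x`, `z` of another prime order
  have key : ∀ t : G, y ∈ cen t → q ≠ orderOf t → (orderOf t).Prime → cen y ≤ cen t := by
    intro t ht hqt htp
    have hcp : (orderOf y).Coprime (orderOf t) := by
      rw [hk]
      exact (Nat.coprime_primes hq htp).2 hqt
    have hle := cen_mul_le (mem_cen.1 ht) hcp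
    have h1 : y * t ≠ 1 := fun e => hqt (by
      rw [← hk, eq_inv_of_mul_eq_one_left e, orderOf_inv])
    have hd := ind_dvd (hle.trans inf_le_left)
    rw [hyb] at hd
    have hyt : ind (y * t) = b := by
      rcases hh.vals _ h1 with h | h | h
      · exact absurd (h ▸ hd) hh.not_b_dvd_a
      · exact h
      · exact absurd (h ▸ hd) hh.not_b_dvd_c
    rw [← eq_of_le_of_ind (hle.trans inf_le_left) (hyt.trans hyb.symm)]
    exact hle.trans inf_le_right
  by_cases hqs : q = s
  · have := key x hyx (by rw [hm, hqs]; exact hne.symm) (hm ▸ hp) (mem_symm hyz)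
    exact (hh.not_comm hx1 hz1 hxa hzc).2 this
  · have := key z hyz (by rw [hm']; exact hqs) (hm' ▸ hs) (mem_symm hyx)
    exact (hh.not_comm hx1 hz1 hxa hzc).1 this

theorem Ctx.card_eq : Nat.card G = a * c := by
  obtain ⟨x, hx, hxa⟩ := hh.exa
  obtain ⟨z, hz, hzc⟩ := hh.exc
  have hmeet := hh.meet_trivial hx hz hxa hzc
  have hbij : Function.Bijective (fun p : cen x × cen z => (p.1 : G) * p.2) := by
    refine ⟨fun p q e => ?_, fun g => ?_⟩
    · have e' : (q.1 : G)⁻¹ * p.1 = q.2 * (p.2 : G)⁻¹ := by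
        rw [eq_mul_inv_iff_mul_eq, mul_assoc, inv_mul_eq_iff_eq_mul]
        exact e
      have h1 : (q.1 : G)⁻¹ * p.1 ∈ cen x ⊓ cen z :=
        ⟨(cen x).mul_mem ((cen x).inv_mem q.1.2) p.1.2,
          e' ▸ (cen z).mul_mem q.2.2 ((cen z).inv_mem p.2.2)⟩
      rw [hmeet, Subgroup.mem_bot] at h1
      have h2 := e'.symm.trans h1
      exact Prod.ext (Subtype.ext (inv_mul_eq_one.1 h1).symm)
        (Subtype.ext (mul_inv_eq_one.1 h2).symm)
    · obtain ⟨j, hj, i, hi, e⟩ := exists_factor z x (by rw [hxa, hzc]; exact hh.cop.symm) g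
      exact ⟨(⟨j, hj⟩, ⟨i, hi⟩), e.symm⟩
  have h1 := Nat.card_congr (Equiv.ofBijective _ hbij)
  rw [Nat.card_prod] at h1
  have h2 := card_mul_ind x
  have h3 := card_mul_ind z
  rw [hxa] at h2
  rw [hzc] at h3
  have : Nat.card G * (a * c) = Nat.card G * Nat.card G := by
    calc Nat.card G * (a * c) = Nat.card (cen x) * Nat.card (cen z) * (a * c) := by rw [h1]
      _ = (Nat.card (cen x) * a) * (Nat.card (cen z) * c) := by ring
      _ = Nat.card G * Nat.card G := by rw [h2, h3]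
  exact (Nat.eq_of_mul_eq_mul_left Nat.card_pos this).symm

theorem Ctx.card_cen_a {g : G} (hg : ind g = a) : Nat.card (cen g) = c := by
  have := card_mul_ind g
  rw [hg, hh.card_eq, mul_comm a c] at this
  exact Nat.eq_of_mul_eq_mul_right (by linarith [hh.one_lt_a]) this

theorem Ctx.card_cen_c {g : G} (hg : ind g = c) : Nat.card (cen g) = a := by
  have := card_mul_ind g
  rw [hg, hh.card_eq] at this
  exact Nat.eq_of_mul_eq_mul_right (by linarith [hh.one_lt_c]) this

theorem Ctx.card_cen_b {g : G} (hg : ind g = b) : Nat.card (cen g) ∣ c := by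
  have := card_mul_ind g
  rw [hg, hh.card_eq] at this
  obtain ⟨t, ht⟩ := hh.adiv
  refine ⟨t, Nat.eq_of_mul_eq_mul_left (by linarith [hh.one_lt_a] : 0 < a) ?_⟩
  rw [← this, ht]
  ring

theorem Ctx.orderOf_dvd_c {g : G} (hg : g ≠ 1) (hc : ind g ≠ c) : orderOf g ∣ c := by
  have hd : orderOf g ∣ Nat.card (cen g) := Subgroup.orderOf_dvd_natCard (cen g) (self_mem g)
  rcases hh.vals g hg with h | h | h
  · rwa [hh.card_cen_a h] at hd
  · exact hd.trans (hh.card_cen_b h)
  · exact absurd h hc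

/-- The centraliser of an element of class size `c` is a CC subgroup. -/
theorem Ctx.cen_eq_of_mem {z u : G} (hz : z ≠ 1) (hzc : ind z = c) (hu : u ∈ cen z) (hu1 : u ≠ 1) :
    ind u = c ∧ cen u = cen z := by
  haveI := hh.simple
  have hall : ∀ {z u : G}, ind z = c → u ∈ cen z → u ≠ 1 → ind u = c := by
    intro z u hzc hu hu1
    by_contra hne
    have h1 : orderOf u ∣ a := hh.card_cen_c hzc ▸ Subgroup.orderOf_dvd_natCard _ hu
    exact hu1 (orderOf_eq_one_iff.1 (Nat.eq_one_of_dvd_coprimes hh.cop h1 (hh.orderOf_dvd_c hu1 hne)))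
  -- two elements of coprime orders
  have key : ∀ {u v : G}, u ≠ 1 → v ≠ 1 → ind v = c → u ∈ cen v →
      (orderOf u).Coprime (orderOf v) → cen u = cen v := by
    intro u v hu1 hv1 hvc hu hcp
    have hle := cen_mul_le (mem_cen.1 hu) hcp
    have h1 : u * v ≠ 1 := fun e => by
      have h2 : orderOf u = orderOf v := by rw [eq_inv_of_mul_eq_one_left e, orderOf_inv]
      rw [h2, Nat.coprime_self, orderOf_eq_one_iff] at hcp
      exact hv1 hcp
    have h3 := hall hvc ((cen v).mul_mem hu (self_mem v)) h1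
    exact (eq_of_le_of_ind (hle.trans inf_le_left) (h3.trans (hall hvc hu hu1).symm)).symm.trans
      (eq_of_le_of_ind (hle.trans inf_le_right) (h3.trans hvc.symm))
  refine ⟨hall hzc hu hu1, ?_⟩
  obtain ⟨q, m, hq, -, hm⟩ := exists_prime_pow hu1
  obtain ⟨s, k, hs, -, hk⟩ := exists_prime_pow hz
  have hy1 := ne_one_of_prime_order hq hm
  have hz1 := ne_one_of_prime_order hs hk
  rw [hh.eq_c hy1 (le_cen_pow u m) (hall hzc hu hu1)]
  have hze := hh.eq_c hz1 (le_cen_pow z k) hzc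
  have hzc' : ind (z ^ k) = c := by rw [ind, ← hze]; exact hzc
  rw [hze]
  have hy : u ^ m ∈ cen (z ^ k) := hze ▸ (cen z).pow_mem hu m
  by_cases hqs : q = s
  · subst hqs
    -- a second prime divides `a`
    obtain ⟨t, ht, htq, hta⟩ : ∃ t, t.Prime ∧ t ≠ q ∧ t ∣ a := by
      by_contra hcon
      push Not at hcon
      obtain ⟨x, hx, hxa⟩ := hh.exa
      have hpow : a = q ^ a.primeFactorsList.length :=
        Nat.eq_prime_pow_of_unique_prime_dvd (by linarith [hh.one_lt_a]) fun hd hdd => by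
          by_contra hne
          exact hcon _ hd hne hdd
      have hprime := Char.prime_card_of_class_prime_pow hq x hx (hxa.trans hpow)
      rw [hh.card_eq] at hprime
      exact Nat.not_prime_mul hh.one_lt_a.ne' hh.one_lt_c.ne' hprime
    haveI := Fact.mk ht
    obtain ⟨⟨v, hv⟩, hvt⟩ :=
      exists_prime_orderOf_dvd_card' (G := cen (z ^ k)) t (by rwa [hh.card_cen_c hzc'])
    rw [Subgroup.orderOf_mk] at hvt
    have hv1 := ne_one_of_prime_order ht hvt
    have hvz := key hv1 hz1 hzc' hv (by rw [hvt, hk]; exact (Nat.coprime_primes ht hq).2 htq)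
    rw [← hvz] at hy ⊢
    exact key hy1 hv1 (hall hzc' hv hv1) hy (by
      rw [hvt, hm]; exact (Nat.coprime_primes hq ht).2 htq.symm)
  · exact key hy1 hz1 hzc' hy (by rw [hm, hk]; exact (Nat.coprime_primes hq hs).2 hqs)

theorem Ctx.comm {z u v : G} (hz : z ≠ 1) (hzc : ind z = c) (hu : u ∈ cen z) (hv : v ∈ cen z) :
    u * v = v * u := by
  by_cases hu1 : u = 1
  · simp [hu1]
  · rw [← (hh.cen_eq_of_mem hz hzc hu hu1).2] at hv
    exact (mem_cen.1 hv).symm

theorem Ctx.mem_normalizer {z : G} (hz : z ≠ 1) (hzc : ind z = c) {g k : G} (hk : k ∈ cen z)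
    (hk1 : k ≠ 1) (hgk : g * k * g⁻¹ ∈ cen z) : g ∈ Subgroup.normalizer (cen z : Set G) := by
  have h1 := (hh.cen_eq_of_mem hz hzc hk hk1).2
  have h2 := (hh.cen_eq_of_mem hz hzc hgk (by simpa using hk1)).2
  rw [cen_conj, h1] at h2
  rw [Subgroup.mem_normalizer_iff]
  intro y
  constructor
  · intro hy
    rw [← h2]
    exact ⟨y, hy, rfl⟩
  · intro hy
    rw [← h2] at hy
    obtain ⟨y', hy', e⟩ := hy
    have : y' = y := (MulAut.conj g).injective e
    exact this ▸ hy'

theorem Ctx.not_normal {z : G} (hz : z ≠ 1) (hzc : ind z = c) :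
    Subgroup.normalizer (cen z : Set G) ≠ ⊤ := by
  intro htop
  haveI := hh.simple
  haveI := Subgroup.normalizer_eq_top_iff.1 htop
  rcases IsSimpleGroup.eq_bot_or_eq_top_of_normal (cen z) inferInstance with h | h
  · exact hz (Subgroup.mem_bot.1 (h ▸ self_mem z))
  · have h2 := hh.card_cen_c hzc
    rw [h, Subgroup.card_top, hh.card_eq] at h2
    exact hh.one_lt_c.ne' (Nat.eq_of_mul_eq_mul_left
      (by linarith [hh.one_lt_a] : 0 < a) (h2.trans (mul_one a).symm))

theorem Ctx.normalizer_ne {z : G} (hz : z ≠ 1) (hzc : ind z = c) :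
    Subgroup.normalizer (cen z : Set G) ≠ cen z := by
  intro hN
  haveI := hh.simple
  obtain ⟨p, hp, hpa⟩ := Nat.exists_prime_and_dvd hh.one_lt_a.ne'
  haveI := Fact.mk hp
  obtain ⟨Q⟩ : Nonempty (Sylow p (cen z)) := inferInstance
  obtain ⟨P, hP⟩ := (Q.isPGroup'.map (cen z).subtype).exists_le_sylow
  have hpc : ¬ p ∣ c := fun h => hp.ne_one (Nat.eq_one_of_dvd_coprimes hh.cop hpa h)
  have hPK : (P : Subgroup G) ≤ cen z := by
    have : (P : Subgroup G) = (Q : Subgroup (cen z)).map (cen z).subtype := by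
      refine (Subgroup.eq_of_le_of_card_ge hP (le_of_eq ?_)).symm
      rw [Subgroup.card_subtype, P.card_eq_multiplicity, Q.card_eq_multiplicity, ← card_mul_ind z,
        hzc, Nat.factorization_mul Nat.card_pos.ne' (by linarith [hh.one_lt_c]), Finsupp.add_apply,
        Nat.factorization_eq_zero_of_not_dvd hpc, add_zero]
    exact this ▸ Subgroup.map_subtype_le _
  have hP1 : (P : Subgroup G) ≠ ⊥ := by
    intro e
    have := P.dvd_card_of_dvd_card (hh.card_eq ▸ hpa.mul_right c)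
    rw [e, Subgroup.card_bot] at this
    exact hp.not_dvd_one this
  have hNP : Subgroup.normalizer (P : Set G) ≤ Subgroup.centralizer (P : Set G) := by
    intro g hg
    obtain ⟨w, hwP, hw1⟩ : ∃ w ∈ (P : Subgroup G), w ≠ 1 := by
      obtain ⟨w, hw⟩ := Subgroup.ne_bot_iff_exists_ne_one.1 hP1
      exact ⟨w, w.2, fun e => hw (Subtype.ext e)⟩
    have hgK : g ∈ cen z := hN ▸ hh.mem_normalizer hz hzc (hPK hwP) hw1
      (hPK ((Subgroup.mem_normalizer_iff.1 hg w).1 hwP))
    exact Subgroup.mem_centralizer_iff.2 fun y hy => hh.comm hz hzc (hPK hy) hgK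
  have hc := MonoidHom.ker_transferSylow_isComplement' P hNP
  rcases IsSimpleGroup.eq_bot_or_eq_top_of_normal (MonoidHom.transferSylow P hNP).ker
    (MonoidHom.normal_ker _) with h | h
  · rw [h, Subgroup.isComplement'_bot_left] at hc
    have h2 : cen z = ⊤ := top_le_iff.1 (hc ▸ hPK)
    exact hh.not_normal hz hzc (hN.trans h2)
  · rw [h, Subgroup.isComplement'_top_left] at hc
    exact hP1 hc

end Cfsg.Agent.ConjRankThree
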