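import Cfsg.Agent.Lib.Char.Isometry
import Cfsg.Agent.Lib.Char.Galois
import Cfsg.Agent.Lib.Char.Integral
import Cfsg.Agent.Lib.ConjRankThree.Setting
import Cfsg.Agent.Lib.ConjRankThree.Fourier

/-!
# Class sizes `a ∣ b` and `c` do not occur in a simple group
-/

set_option autoImplicit false
set_option linter.style.haveILetI false
set_option linter.unusedSectionVars false

open scoped ComplexConjugate

namespace Cfsg.Agent.ConjRankThree

universe u

variable {G : Type u} [Group G]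

/-- Conjugation of a subgroup by an element of its normaliser. -/
def cj (K : Subgroup G) (w : Subgroup.normalizer (K : Set G)) : K →* K where
  toFun k := ⟨(w : G)⁻¹ * k * w, (Subgroup.mem_normalizer_iff''.1 w.2 k).1 k.2⟩
  map_one' := Subtype.ext (by simp)
  map_mul' k l := Subtype.ext (by simp [mul_assoc])

theorem cj_apply (K : Subgroup G) (w : Subgroup.normalizer (K : Set G)) (k : K) :
    ((cj K w k : K) : G) = (w : G)⁻¹ * k * w := rfl

section

variable [Fintype G] {a b c : ℕ} (hh : Ctx G a b c) {x z : G} {r : ℕ} (hr : r.Prime)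
  (hxr : orderOf x = r) (hxa : ind x = a) (hz : z ≠ 1) (hzc : ind z = c)

include hh hr hxr hxa hz hzc

theorem x_ne_one : x ≠ 1 := ne_one_of_prime_order hr hxr

theorem r_dvd_c : r ∣ c := hxr ▸ hh.card_cen_a hxa ▸
  Subgroup.orderOf_dvd_natCard (cen x) (self_mem x)

theorem eq_one_of_both {g : G} (h1 : g ∈ cen x) (h2 : g ∈ cen z) : g = 1 :=
  Subgroup.mem_bot.1 (hh.meet_trivial (x_ne_one hh hr hxr hxa hz hzc) hz hxa hzc ▸ ⟨h1, h2⟩)

theorem ind_normalizer {g : G} (hgx : g ∈ cen x) (hg1 : g ≠ 1)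
    (hgN : g ∈ Subgroup.normalizer (cen z : Set G)) : ind g = b := by
  haveI := hh.simple
  rcases hh.vals g hg1 with h | h | h
  · exfalso
    apply hh.not_normal hz hzc
    have hle : Subgroup.normalClosure ({g} : Set G) ≤ Subgroup.normalizer (cen z : Set G) := by
      rw [Subgroup.normalClosure, Subgroup.closure_le]
      intro w hw
      obtain ⟨g', hg', hc⟩ := Group.mem_conjugatesOfSet_iff.1 hw
      rw [Set.mem_singleton_iff] at hg'
      subst hg'
      obtain ⟨w', rfl⟩ := isConj_iff.1 hc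
      obtain ⟨j, hj, i, hi, rfl⟩ := exists_factor g' z (by rw [h, hzc]; exact hh.cop) w'
      rw [show j * i * g' * (j * i)⁻¹ = j * (i * g') * i⁻¹ * j⁻¹ by group, mem_cen.1 hi,
        show j * (g' * i) * i⁻¹ * j⁻¹ = j * g' * j⁻¹ by group]
      have hjN := Subgroup.le_normalizer hj
      exact mul_mem (mul_mem hjN hgN) (inv_mem hjN)
    refine top_le_iff.1 (le_trans (le_of_eq ?_) hle)
    exact ((IsSimpleGroup.eq_bot_or_eq_top_of_normal _ Subgroup.normalClosure_normal).resolve_left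
      fun e => hg1 (Subgroup.mem_bot.1 (e ▸ Subgroup.subset_normalClosure (Set.mem_singleton g)))).symm
  · exact h
  · exact absurd hgx (hh.not_comm (x_ne_one hh hr hxr hxa hz hzc) hg1 hxa h).2

theorem x_notMem : x ∉ Subgroup.normalizer (cen z : Set G) := fun hN =>
  hh.a_ne_b (hxa.symm.trans (ind_normalizer hh hr hxr hxa hz hzc (self_mem x)
    (x_ne_one hh hr hxr hxa hz hzc) hN))

theorem card_normalizer :
    Nat.card (Subgroup.normalizer (cen z : Set G)) =
      a * Nat.card (Subgroup.normalizer (cen z : Set G) ⊓ cen x : Subgroup G) := by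
  rw [← hh.card_cen_c hzc, ← Nat.card_prod]
  refine (Nat.card_congr (Equiv.ofBijective
    (fun p => (⟨(p.1 : G) * p.2, mul_mem (Subgroup.le_normalizer p.1.2) p.2.2.1⟩ :
      Subgroup.normalizer (cen z : Set G))) ⟨fun p q e => ?_, fun g => ?_⟩)).symm
  · have e0 : (p.1 : G) * p.2 = q.1 * q.2 := congrArg Subtype.val e
    have e' : (q.1 : G)⁻¹ * p.1 = q.2 * (p.2 : G)⁻¹ := by
      rw [eq_mul_inv_iff_mul_eq, mul_assoc, inv_mul_eq_iff_eq_mul]
      exact e0
    have h1 : (q.1 : G)⁻¹ * p.1 = 1 := eq_one_of_both hh hr hxr hxa hz hzc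
      (e' ▸ mul_mem q.2.2.2 (inv_mem p.2.2.2)) (mul_mem (inv_mem q.1.2) p.1.2)
    exact Prod.ext (Subtype.ext (inv_mul_eq_one.1 h1).symm)
      (Subtype.ext (mul_inv_eq_one.1 (e'.symm.trans h1)).symm)
  · obtain ⟨j, hj, i, hi, e⟩ := exists_factor x z (by rw [hxa, hzc]; exact hh.cop) (g : G)
    refine ⟨(⟨j, hj⟩, ⟨i, ?_, hi⟩), Subtype.ext e.symm⟩
    rw [show i = j⁻¹ * (g : G) by rw [e]; group]
    have hjN : j ∈ Subgroup.normalizer (cen z : Set G) := Subgroup.le_normalizer hj
    change _ ∈ Subgroup.normalizer (cen z : Set G)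
    exact mul_mem (inv_mem hjN) g.2

theorem two_mul_le {n : ℕ} (hn : n * b = Nat.card G) :
    2 * Nat.card (Subgroup.normalizer (cen z : Set G) ⊓ cen x : Subgroup G) ≤ n := by
  set E : Subgroup G := Subgroup.normalizer (cen z : Set G) ⊓ cen x with hE
  have hx1 := x_ne_one hh hr hxr hxa hz hzc
  have hb0 : 0 < b := by linarith [hh.one_lt_a, hh.ab]
  -- a central element of an `l`-subgroup
  have key : ∀ {l k : ℕ}, l.Prime → k ≠ 0 → l ^ k ∣ Nat.card E →
      ∃ (L : Subgroup G) (f : G), Nat.card L = l ^ k ∧ L ≤ E ∧ f ∈ L ∧ L ≤ cen f ∧ x ∈ cen f ∧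
        Nat.card (cen f) = n := by
    intro l k hl hk hd
    haveI := Fact.mk hl
    obtain ⟨L, hL⟩ := Sylow.exists_subgroup_card_pow_prime l hd
    haveI : Nontrivial L :=
      Finite.one_lt_card_iff_nontrivial.1 (hL ▸ Nat.one_lt_pow hk hl.one_lt)
    haveI := (IsPGroup.of_card hL).center_nontrivial
    obtain ⟨⟨⟨f, hfL⟩, hfc⟩, hf1⟩ := exists_ne (1 : Subgroup.center L)
    refine ⟨L.map E.subtype, (f : G), (Subgroup.card_subtype E L).trans hL,
      Subgroup.map_subtype_le L, ⟨f, hfL, rfl⟩, ?_, mem_symm f.2.2, ?_⟩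
    · rintro _ ⟨y, hy, rfl⟩
      have := Subgroup.mem_center_iff.1 hfc ⟨y, hy⟩
      exact mem_cen.2 (congrArg (fun t : L => ((t : E) : G)) this)
    · have hb := ind_normalizer hh hr hxr hxa hz hzc f.2.2
        (fun e => hf1 (Subtype.ext (Subtype.ext (Subtype.ext e)))) f.2.1
      have := card_mul_ind (f : G)
      rw [hb, ← hn] at this
      exact Nat.eq_of_mul_eq_mul_right hb0 this
  have hn0 : 0 < n := Nat.pos_of_ne_zero fun h => by
    rw [h, zero_mul] at hn
    exact Nat.card_pos.ne' hn.symm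
  have hdvd : Nat.card E ∣ n := by
    rw [Nat.dvd_iff_prime_pow_dvd_dvd]
    intro l k hl hd
    rcases eq_or_ne k 0 with rfl | hk
    · simp
    · obtain ⟨L, f, hL, -, -, hLf, -, hf⟩ := key hl hk hd
      exact hL ▸ hf ▸ Subgroup.card_dvd_of_le hLf
  have hE1 : Nat.card E ≠ 1 := fun h => hh.normalizer_ne hz hzc
    (Subgroup.eq_of_le_of_card_ge Subgroup.le_normalizer
      (by rw [card_normalizer hh hr hxr hxa hz hzc, hh.card_cen_c hzc, ← hE, h, mul_one])).symm
  have hne : Nat.card E ≠ n := by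
    intro he
    obtain ⟨l, hl, hle⟩ := Nat.exists_prime_and_dvd hE1
    obtain ⟨L, f, -, -, -, -, hxf, hf⟩ := key hl one_ne_zero (by rwa [pow_one])
    have hrE : r ∣ Nat.card E := by
      rw [he, ← hf, ← hxr]
      exact Subgroup.orderOf_dvd_natCard _ hxf
    haveI := Fact.mk hr
    obtain ⟨L, f, hL, hLE, -, hLf, hxf, hf⟩ :=
      key hr (Nat.Prime.factorization_pos_of_dvd hr Nat.card_pos.ne' hrE).ne'
        (Nat.ordProj_dvd (Nat.card E) r)
    have hX : IsPGroup r (Subgroup.zpowers x) :=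
      IsPGroup.of_card (n := 1) (by rw [Nat.card_zpowers, hxr, pow_one])
    have hcomm : Subgroup.zpowers x ≤ Subgroup.normalizer (L : Set G) := by
      rw [Subgroup.zpowers_le, Subgroup.mem_normalizer_iff]
      intro y
      have hcy : ∀ y ∈ L, x * y * x⁻¹ = y := fun y hy => by
        rw [← mem_cen.1 (hLE hy).2, mul_inv_cancel_right]
      constructor
      · intro hy
        rwa [hcy y hy]
      · intro hy
        have h2 := hcy _ hy
        have : x * y * x⁻¹ = y := by
          rw [mul_inv_eq_iff_eq_mul, inv_mul_cancel_right] at h2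
          exact mul_left_cancel h2
        rwa [this] at hy
    have hsup := hX.to_sup_of_normal_right' (IsPGroup.of_card hL) hcomm
    obtain ⟨m, hm⟩ := hsup.exists_card_eq
    have hsub : Subgroup.zpowers x ⊔ L ≤ cen f := sup_le (Subgroup.zpowers_le.2 hxf) hLf
    have hd := Subgroup.card_dvd_of_le hsub
    rw [hf, hm] at hd
    have hlt : (Nat.card E).factorization r < m := by
      by_contra hmle
      push Not at hmle
      have heq := Subgroup.eq_of_le_of_card_ge (le_sup_right : L ≤ Subgroup.zpowers x ⊔ L)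
        (by rw [hm, hL]; exact Nat.pow_le_pow_right hr.pos hmle)
      exact x_notMem hh hr hxr hxa hz hzc
        (hLE (heq ▸ (le_sup_left : Subgroup.zpowers x ≤ _) (Subgroup.mem_zpowers x))).1
    refine Nat.pow_succ_factorization_not_dvd (Nat.card_pos (α := E)).ne' hr ?_
    have h3 := (pow_dvd_pow r (Nat.succ_le_of_lt hlt)).trans hd
    rwa [← he] at h3
  obtain ⟨t, ht⟩ := hdvd
  rcases Nat.lt_or_ge t 2 with h | h
  · interval_cases t
    · omega
    · exact absurd (by omega) hne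
  · rw [ht, mul_comm 2]
    exact Nat.mul_le_mul_left _ h

theorem mul_ne_one {k : G} (hk : k ∈ cen z) : x * k ≠ 1 := fun e =>
  (hh.not_comm (x_ne_one hh hr hxr hxa hz hzc) hz hxa hzc).1
    (eq_inv_of_mul_eq_one_left e ▸ inv_mem hk)

theorem ind_mul {k : G} (hk : k ∈ cen z) (hk1 : k ≠ 1) : ind (x * k) = b := by
  haveI := hh.simple
  have hkc := (hh.cen_eq_of_mem hz hzc hk hk1).1
  have hx1 := x_ne_one hh hr hxr hxa hz hzc
  have hcop : (ind x).Coprime (ind k) := by rw [hxa, hkc]; exact hh.cop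
  rcases hh.vals _ (mul_ne_one hh hr hxr hxa hz hzc hk) with h | h | h
  · exact absurd (by rw [ind_mul_comm, h, hxa]) (ind_mul_ne hh.center hk1 hx1 hcop.symm)
  · exact h
  · exact absurd (h.trans hkc.symm) (ind_mul_ne hh.center hx1 hk1 hcop)

theorem char_mul {χ : G → ℂ} (hχ : Cfsg.IsIrrCharacter G χ) {k : G} (hk : k ∈ cen z) (hk1 : k ≠ 1) :
    χ (x * k) * χ 1 = χ x * χ k := by
  have hkc := (hh.cen_eq_of_mem hz hzc hk hk1).1
  have hcop : (ind x).Coprime (ind k) := by rw [hxa, hkc]; exact hh.cop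
  obtain ⟨N, ρ, hρ, rfl⟩ := hχ
  have hsum : ∑ y ∈ Char.classFinset k, ρ.character (x * y) = (c : ℂ) * ρ.character (x * k) := by
    rw [Finset.sum_congr rfl fun y hy => ?_, Finset.sum_const, Char.card_classFinset,
      show (Subgroup.centralizer ({k} : Set G)).index = c from hkc, nsmul_eq_mul]
    obtain ⟨w, rfl⟩ := isConj_iff.1 (Char.mem_classFinset.1 hy)
    exact (Char.isClassFunction_iff.mp (fun g w => Representation.char_conj ρ g w) _ _
      (isConj_mul_conj x k hcop w)).symm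
  have h2 : ∑ y ∈ Char.classFinset k, ρ.character (x * y) =
      LinearMap.trace ℂ (Fin N → ℂ) (ρ x * ∑ y ∈ Char.classFinset k, ρ y) := by
    simp only [Representation.character, Finset.mul_sum, map_sum, map_mul]
  rw [Char.classSum_scalar, ← Module.End.one_eq_id, mul_smul_comm, mul_one, map_smul, smul_eq_mul,
    show (Subgroup.centralizer ({k} : Set G)).index = c from hkc] at h2
  have h3 := hsum.symm.trans h2
  change _ = _ * ρ.character x at h3
  have hd : (Module.finrank ℂ (Fin N → ℂ) : ℂ) ≠ 0 :=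
    Nat.cast_ne_zero.mpr (Char.finrank_pos_of_irreducible ρ).ne'
  have hc0 : (c : ℂ) ≠ 0 := Nat.cast_ne_zero.mpr (by linarith [hh.one_lt_c])
  rw [Representation.char_one]
  field_simp at h3
  rw [h3]
  ring

theorem char_pow {χ : G → ℂ} (hχ : Cfsg.IsIrrCharacter G χ) (hx0 : χ x ≠ 0) {j : ℕ}
    (hj : a.Coprime j) {k : G} (hk : k ∈ cen z) : χ (k ^ j) = χ k := by
  by_cases hk1 : k = 1
  · simp [hk1]
  have ha0 : a ≠ 0 := by linarith [hh.one_lt_a]
  have hc0 : c ≠ 0 := by linarith [hh.one_lt_c]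
  obtain ⟨J, hJa, hJc⟩ := Nat.chineseRemainder hh.cop j 1
  have hJ : J.Coprime (a * c) := by
    refine Nat.Coprime.mul_right ?_ ?_
    · rw [Nat.Coprime, Nat.gcd_comm] at hj ⊢
      rw [Nat.gcd_comm, Nat.ModEq.gcd_eq hJa, hj]
    · rw [Nat.Coprime, Nat.ModEq.gcd_eq hJc, Nat.gcd_one_left]
  obtain ⟨σ, hσ⟩ := CharGalois.exists_galoisAut (mul_ne_zero ha0 hc0) hJ
  have hmap : ∀ g : G, σ (χ g) = χ (g ^ J) := fun g =>
    CharGalois.map_char (Char.IsIrrCharacter.isCharacter hχ) σ.toRingHom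
      (fun w hw => hσ w (hh.card_eq ▸ hw)) g
  have hfix : ∀ g : G, orderOf g ∣ c → g ^ J = g := fun g hg => by
    conv_rhs => rw [← pow_one g]
    exact pow_eq_pow_iff_modEq.2 (hJc.of_dvd hg)
  have hkJ : k ^ J = k ^ j := pow_eq_pow_iff_modEq.2
    (hJa.of_dvd (hh.card_cen_c hzc ▸ Subgroup.orderOf_dvd_natCard _ hk))
  have h1 := char_mul hh hr hxr hxa hz hzc hχ hk hk1
  have h2 := congrArg σ h1
  rw [map_mul, map_mul, hmap, hmap, hmap, hmap, one_pow, hkJ,
    hfix x (hxr ▸ r_dvd_c hh hr hxr hxa hz hzc),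
    hfix (x * k) (hh.orderOf_dvd_c (mul_ne_one hh hr hxr hxa hz hzc hk)
      (by rw [ind_mul hh hr hxr hxa hz hzc hk hk1]; exact hh.b_ne_c)), h1] at h2
  exact (mul_left_cancel₀ hx0 h2).symm

end

end Cfsg.Agent.ConjRankThree
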