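import Cfsg.Agent.Lib.Char.Induction
import Cfsg.Agent.Lib.ConjRankThree.Chars

/-!
# The exceptional characters force too few constituents
-/

set_option autoImplicit false
set_option linter.style.haveILetI false
set_option linter.unusedSectionVars false

open scoped ComplexConjugate

namespace Cfsg.Agent.ConjRankThree

universe u

attribute [local instance] Classical.propDecidable

theorem exponent_facts {Λ : Type*} [CommGroup Λ] (l : Λ) {p q j : ℕ} (hp : p.Prime) (hq : q.Prime)
    (hp2 : p ≠ 2) (hl : orderOf l = p * q) (hj1 : j + 1 ≡ 0 [MOD p]) (hjq : j ≡ 1 [MOD q]) :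
    l ^ j ≠ l ∧ l ^ p ≠ 1 ∧ l ^ j ≠ 1 ∧ (l ^ j) ^ p = l ^ p := by
  have hlp : l ^ p ≠ 1 := fun h => by
    have := orderOf_dvd_of_pow_eq_one h
    rw [hl] at this
    exact hq.ne_one (Nat.dvd_one.1 ((Nat.mul_dvd_mul_iff_left hp.pos).1
      (this.trans (dvd_of_eq (mul_one p).symm))))
  have hlpj : (l ^ j) ^ p = l ^ p := by
    rw [pow_right_comm]
    conv_rhs => rw [← pow_one (l ^ p)]
    refine pow_eq_pow_iff_modEq.2 (hjq.of_dvd (orderOf_dvd_of_pow_eq_one ?_))
    rw [← pow_mul, ← hl, pow_orderOf_eq_one]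
  refine ⟨fun h => ?_, hlp, fun h => hlp (by rw [← hlpj, h, one_pow]), hlpj⟩
  have h1 : j ≡ 1 [MOD p * q] := hl ▸ pow_eq_pow_iff_modEq.1 (h.trans (pow_one l).symm)
  have h2 := ((h1.of_dvd (dvd_mul_right p q)).add_right 1).symm.trans hj1
  exact hp2 ((Nat.prime_dvd_prime_iff_eq hp Nat.prime_two).1 (Nat.modEq_zero_iff_dvd.1 h2))

variable {G : Type u} [Group G] [Fintype G] {a b c : ℕ} (hh : Ctx G a b c) {x z : G} {r : ℕ}
  (hr : r.Prime) (hxr : orderOf x = r) (hxa : ind x = a) (hz : z ≠ 1) (hzc : ind z = c)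

include hh hr hxr hxa hz hzc

theorem cj_eq_self {w : Subgroup.normalizer (cen z : Set G)} {k : cen z} (hk : k ≠ 1)
    (e : cj (cen z) w k = k) : (w : G) ∈ cen z := by
  have e' : (w : G)⁻¹ * k * w = k := congrArg Subtype.val e
  rw [mul_assoc, inv_mul_eq_iff_eq_mul] at e'
  exact (hh.cen_eq_of_mem hz hzc k.2 (fun h => hk (Subtype.ext h))).2.le (mem_cen.2 e'.symm)

theorem cj_bijective (w : Subgroup.normalizer (cen z : Set G)) :
    Function.Bijective (cj (cen z) w) :=
  ⟨fun k l e => Subtype.ext (by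
    have e' : (w : G)⁻¹ * k * w = (w : G)⁻¹ * l * w := congrArg Subtype.val e
    exact mul_left_cancel (mul_right_cancel e')),
  fun l => ⟨⟨(w : G) * l * (w : G)⁻¹, (Subgroup.mem_normalizer_iff.1 w.2 l).1 l.2⟩,
    Subtype.ext (by simp [cj_apply, mul_assoc])⟩⟩

theorem stab_mem {w : Subgroup.normalizer (cen z : Set G)} {l : (cen z) →* ℂˣ} (hl : l ≠ 1)
    (e : l.comp (cj (cen z) w) = l) : (w : G) ∈ cen z := by
  by_contra hw
  have hc : ∀ u v : cen z, u * v = v * u := fun u v => Subtype.ext (hh.comm hz hzc u.2 v.2)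
  let d : cen z → cen z := fun k => k⁻¹ * cj (cen z) w k
  have hinj : Function.Injective d := by
    intro k k' h
    have h2 : cj (cen z) w (k * k'⁻¹) = k * k'⁻¹ := by
      rw [map_mul, map_inv]
      have h3 : cj (cen z) w k = k * k'⁻¹ * cj (cen z) w k' := by
        rw [mul_assoc, show k'⁻¹ * cj (cen z) w k' = d k' from rfl, ← h]
        exact (mul_inv_cancel_left k _).symm
      rw [h3, mul_inv_cancel_right]
    by_contra hne
    exact hw (cj_eq_self hh hr hxr hxa hz hzc (by rwa [Ne, mul_inv_eq_one]) h2)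
  refine hl (MonoidHom.ext fun k => ?_)
  obtain ⟨k', rfl⟩ := Finite.surjective_of_injective hinj k
  change l (k'⁻¹ * cj (cen z) w k') = 1
  rw [map_mul, map_inv, show l (cj (cen z) w k') = l k' from DFunLike.congr_fun e k', inv_mul_cancel]

theorem comp_cj_of_mem {w : Subgroup.normalizer (cen z : Set G)} (hw : (w : G) ∈ cen z)
    (l : (cen z) →* ℂˣ) : l.comp (cj (cen z) w) = l := by
  refine MonoidHom.ext fun k => congrArg l (Subtype.ext ?_)
  rw [cj_apply, mul_assoc, hh.comm hz hzc k.2 hw, inv_mul_cancel_left]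

open scoped Classical in
/-- How many elements of the normaliser take `l` to `l'`. -/
noncomputable def cnt (z : G) (l l' : (cen z) →* ℂˣ) : ℕ :=
  (Finset.univ.filter fun w : Subgroup.normalizer (cen z : Set G) => l = l'.comp (cj (cen z) w)).card

theorem cnt_self {l : (cen z) →* ℂˣ} (hl : l ≠ 1) : cnt z l l = a := by
  classical
  rw [cnt, Finset.filter_congr (q := fun w : Subgroup.normalizer (cen z : Set G) => (w : G) ∈ cen z)
    fun w _ => ⟨fun e => stab_mem hh hr hxr hxa hz hzc hl e.symm,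
      fun hw => (comp_cj_of_mem hh hr hxr hxa hz hzc hw l).symm⟩,
    ← Fintype.card_subtype, ← Nat.card_eq_fintype_card]
  exact (Nat.card_congr (Subgroup.subgroupOfEquivOfLe Subgroup.le_normalizer).toEquiv).trans
    (hh.card_cen_c hzc)

/-- Inner products of functions induced from the abelian CC subgroup. -/
theorem classInner_ind (θ θ' : cen z → ℂ) (h1 : θ 1 = 0) :
    Cfsg.classInner (Cfsg.indFun (cen z) θ) (Cfsg.indFun (cen z) θ') =
      (a : ℂ)⁻¹ * ∑ w : Subgroup.normalizer (cen z : Set G),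
        Cfsg.classInner θ (fun k => θ' (cj (cen z) w k)) := by
  classical
  rw [Char.classInner_indFun_left _ _ (Char.isClassFunction_indFun _ θ')]
  have key : ∀ k : cen z, θ k * conj (Cfsg.indFun (cen z) θ' k) =
      (a : ℂ)⁻¹ * ∑ w : Subgroup.normalizer (cen z : Set G),
        θ k * conj (θ' (cj (cen z) w k)) := by
    intro k
    by_cases hk : k = 1
    · subst hk
      simp [h1]
    rw [Char.indFun_apply, hh.card_cen_c hzc, ← Finset.mul_sum, ← map_sum]
    rw [show ∑ w : G, Cfsg.extendByZero (cen z) θ' (w⁻¹ * k * w) =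
        ∑ w : Subgroup.normalizer (cen z : Set G), θ' (cj (cen z) w k) from ?_]
    · rw [map_mul, map_inv₀, Complex.conj_natCast]
      ring
    refine (Fintype.sum_of_injective Subtype.val Subtype.val_injective _ _ (fun w hw => ?_)
      fun w => (Char.extendByZero_coe (cen z) θ' (cj (cen z) w k)).symm).symm
    refine Char.extendByZero_not_mem _ _ fun hm => hw ⟨⟨w, ?_⟩, rfl⟩
    have := hh.mem_normalizer (g := w⁻¹) hz hzc k.2 (fun h => hk (Subtype.ext h))
      (by rwa [inv_inv])
    exact inv_mem_iff.1 this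
  simp only [Cfsg.classInner]
  rw [Finset.sum_congr rfl fun k _ => key k, ← Finset.mul_sum, Finset.sum_comm, Finset.mul_sum,
    Finset.mul_sum, Finset.mul_sum]
  exact Finset.sum_congr rfl fun w _ => by ring

theorem classInner_ind_lin (l m l' m' : (cen z) →* ℂˣ) :
    Cfsg.classInner (Cfsg.indFun (cen z) (lin l - lin m)) (Cfsg.indFun (cen z) (lin l' - lin m')) =
      (a : ℂ)⁻¹ * ((cnt z l l' : ℂ) - cnt z l m' - cnt z m l' + cnt z m m') := by
  classical
  rw [classInner_ind hh hr hxr hxa hz hzc _ _ (by simp [lin])]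
  congr 1
  have hw : ∀ w : Subgroup.normalizer (cen z : Set G),
      (fun k => (lin l' - lin m') (cj (cen z) w k)) =
        lin (l'.comp (cj (cen z) w)) - lin (m'.comp (cj (cen z) w)) := fun w => rfl
  simp only [hw, Char.classInner_sub_left, Char.classInner_sub_right, classInner_lin, cnt,
    Finset.natCast_card_filter, ← Finset.sum_sub_distrib, ← Finset.sum_add_distrib]
  exact Finset.sum_congr rfl fun w _ => by ring

theorem indFun_lin_x (θ : cen z → ℂ) : Cfsg.indFun (cen z) θ x = 0 := by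
  refine Char.indFun_eq_zero_of_forall _ _ fun w hw => ?_
  have h1 : orderOf (w⁻¹ * x * w) = r := by
    rw [← hxr]
    exact orderOf_injective (MulAut.conj w⁻¹).toMonoidHom (MulAut.conj w⁻¹).injective x ▸
      congrArg orderOf (by simp)
  have h2 : r ∣ a := h1 ▸ hh.card_cen_c hzc ▸ Subgroup.orderOf_dvd_natCard _ hw
  exact hr.ne_one (Nat.eq_one_of_dvd_coprimes hh.cop h2 (r_dvd_c hh hr hxr hxa hz hzc))

theorem classInner_irr_ind {χ : G → ℂ} (hχ : Cfsg.IsIrrCharacter G χ) (l m : (cen z) →* ℂˣ) :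
    Cfsg.classInner χ (Cfsg.indFun (cen z) (lin l - lin m)) =
      Cfsg.classInner (fun k : cen z => χ k) (lin l) -
        Cfsg.classInner (fun k : cen z => χ k) (lin m) := by
  rw [Char.classInner_indFun_right _ _ (Char.IsCharacter.isClassFunction
    (Char.IsIrrCharacter.isCharacter hχ)), Char.classInner_sub_right]

theorem ind_diff {l m : (cen z) →* ℂˣ} (hl : l ≠ 1) (hm : m ≠ 1)
    (hlm : ∀ w : Subgroup.normalizer (cen z : Set G), m.comp (cj (cen z) w) ≠ l)
    (hml : ∀ w : Subgroup.normalizer (cen z : Set G), l.comp (cj (cen z) w) ≠ m) :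
    ∃ μ ν : Cfsg.IrrCharacter G, μ ≠ ν ∧
      Cfsg.indFun (cen z) (lin l - lin m) = (μ : G → ℂ) - (ν : G → ℂ) ∧
      (μ : G → ℂ) x = (ν : G → ℂ) x := by
  classical
  have h0 : cnt z l m = 0 ∧ cnt z m l = 0 := by
    simp only [cnt, Finset.card_eq_zero, Finset.filter_eq_empty_iff]
    exact ⟨fun w _ h => hlm w h.symm, fun w _ h => hml w h.symm⟩
  obtain ⟨μ, ν, hne, he⟩ := Char.IsGeneralizedCharacter.of_norm_two
    (Char.IsGeneralizedCharacter.indFun (cen z)
      (θ := lin l - lin m) (Char.IsGeneralizedCharacter.sub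
        (Char.IsGeneralizedCharacter.of_isCharacter
          (Char.IsIrrCharacter.isCharacter (Char.isIrrCharacter_linear l)))
        (Char.IsGeneralizedCharacter.of_isCharacter
          (Char.IsIrrCharacter.isCharacter (Char.isIrrCharacter_linear m)))))
    (by
      rw [classInner_ind_lin hh hr hxr hxa hz hzc, cnt_self hh hr hxr hxa hz hzc hl,
        cnt_self hh hr hxr hxa hz hzc hm, h0.1, h0.2]
      have : (a : ℂ) ≠ 0 := Nat.cast_ne_zero.mpr (by linarith [hh.one_lt_a])
      field_simp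
      push_cast
      ring)
    (by rw [Char.indFun_one_apply]; simp [lin])
  refine ⟨μ, ν, hne, he, ?_⟩
  have := congrFun he x
  rw [indFun_lin_x hh hr hxr hxa hz hzc] at this
  exact sub_eq_zero.1 this.symm

set_option maxHeartbeats 4000000 in
/-- Characters not vanishing at `x` are constant on the nontrivial elements of the CC subgroup. -/
theorem char_const {χ : G → ℂ} (hχ : Cfsg.IsIrrCharacter G χ) (hx0 : χ x ≠ 0) {k k' : cen z}
    (hk : k ≠ 1) (hk' : k' ≠ 1) : χ k = χ k' := by
  classical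
  haveI := hh.simple
  have hcomm : ∀ u v : cen z, u * v = v * u := fun u v => Subtype.ext (hh.comm hz hzc u.2 v.2)
  have hKa : Nat.card (cen z) = a := hh.card_cen_c hzc
  have ha0 : a ≠ 0 := by linarith [hh.one_lt_a]
  have hpp : ∀ q : ℕ, q.Prime → ∃ t, t.Prime ∧ t ≠ q ∧ t ∣ a := by
    intro q hq
    by_contra hcon
    push Not at hcon
    have hpow : a = q ^ a.primeFactorsList.length :=
      Nat.eq_prime_pow_of_unique_prime_dvd ha0 fun hd hdd => by
        by_contra hne
        exact hcon _ hd hne hdd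
    have hprime := Char.prime_card_of_class_prime_pow hq x (x_ne_one hh hr hxr hxa hz hzc)
      (hxa.trans hpow)
    rw [hh.card_eq] at hprime
    exact Nat.not_prime_mul hh.one_lt_a.ne' hh.one_lt_c.ne' hprime
  obtain ⟨p, hp, hp2, hpa⟩ := hpp 2 Nat.prime_two
  obtain ⟨q, hq, hqp, hqa⟩ := hpp p hp
  obtain ⟨l0, hl0⟩ := exists_lin_order hcomm hp hq (Ne.symm hqp) (hKa ▸ hpa) (hKa ▸ hqa)
  -- an exponent inverting the `p`-part and fixing the rest
  have hcop : (p ^ a.factorization p).Coprime (a / p ^ a.factorization p) :=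
    (Nat.coprime_ordCompl hp ha0).pow_left _
  obtain ⟨j, hj1, hj2⟩ := Nat.chineseRemainder hcop (p ^ a.factorization p - 1) 1
  have hv : 0 < a.factorization p := hp.factorization_pos_of_dvd ha0 hpa
  have hj1p : j + 1 ≡ 0 [MOD p] := by
    have h1 := hj1.add_right 1
    rw [Nat.sub_add_cancel (Nat.one_le_pow _ _ hp.pos)] at h1
    exact (h1.trans (Nat.modEq_zero_iff_dvd.2 dvd_rfl)).of_dvd (dvd_pow_self p hv.ne')
  have hjp : ¬ p ∣ j := fun h => hp.not_dvd_one
    ((Nat.dvd_add_right h).1 (Nat.modEq_zero_iff_dvd.1 hj1p))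
  have hja : a.Coprime j := by
    rw [← Nat.ordProj_mul_ordCompl_eq_self a p]
    refine Nat.Coprime.mul_left ((hp.coprime_iff_not_dvd.2 hjp).pow_left _) ?_
    rw [Nat.Coprime, Nat.gcd_comm, Nat.ModEq.gcd_eq hj2, Nat.gcd_one_left]
  have hjq : j ≡ 1 [MOD q] := hj2.of_dvd (by
    have : q ∣ p ^ a.factorization p * (a / p ^ a.factorization p) := by
      rw [Nat.ordProj_mul_ordCompl_eq_self a p]; exact hqa
    exact (hq.dvd_mul.1 this).resolve_left fun h =>
      hqp ((Nat.prime_dvd_prime_iff_eq hq hp).1 (hq.dvd_of_dvd_pow h)))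
  have hl1 : l0 ≠ 1 := fun h => by
    rw [h, orderOf_one] at hl0
    exact hp.ne_one (Nat.eq_one_of_mul_eq_one_right hl0.symm)
  obtain ⟨hlj, hlp, hl1', hlpj⟩ := exponent_facts (Λ := (cen z) →* ℂˣ) l0 hp hq hp2 hl0 hj1p hjq
  have horb : ∀ w : Subgroup.normalizer (cen z : Set G), l0.comp (cj (cen z) w) ≠ l0 ^ j := by
    intro w e
    have h1 : (l0 ^ p).comp (cj (cen z) w) = (l0.comp (cj (cen z) w)) ^ p :=
      MonoidHom.ext fun _ => rfl
    rw [e, hlpj] at h1
    exact hlj (e.symm.trans (comp_cj_of_mem hh hr hxr hxa hz hzc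
      (stab_mem hh hr hxr hxa hz hzc hlp h1) l0))
  have horb' : ∀ w : Subgroup.normalizer (cen z : Set G), (l0 ^ j).comp (cj (cen z) w) ≠ l0 := by
    intro w e
    refine horb w⁻¹ (MonoidHom.ext fun y => ?_)
    have h1 := DFunLike.congr_fun e (cj (cen z) w⁻¹ y)
    rw [MonoidHom.comp_apply, show cj (cen z) w (cj (cen z) w⁻¹ y) = y from
      Subtype.ext (by simp [cj_apply, mul_assoc])] at h1
    exact h1.symm
  -- invariance of the multiplicities under the exponent
  have hinv : ∀ {φ : G → ℂ}, Cfsg.IsIrrCharacter G φ → φ x ≠ 0 →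
      Cfsg.classInner (fun y : cen z => φ y) (lin (l0 ^ j)) =
        Cfsg.classInner (fun y : cen z => φ y) (lin l0) := fun hφ hφx =>
    mult_pow (fun y : cen z => _) (hKa.symm ▸ hja)
      (fun y => char_pow hh hr hxr hxa hz hzc hφ hφx hja y.2) l0
  obtain ⟨μ, ν, hne, hd, hmn⟩ := ind_diff hh hr hxr hxa hz hzc hl1 hl1' horb' horb
  have hirr : ∀ (φ α β : Cfsg.IrrCharacter G),
      Cfsg.classInner (φ : G → ℂ) ((α : G → ℂ) - (β : G → ℂ)) =
        (if φ = α then 1 else 0) - (if φ = β then 1 else 0) := fun φ α β => by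
    simp only [Char.classInner_sub_right, Char.classInner_irr φ.2 α.2, Char.classInner_irr φ.2 β.2,
      Subtype.coe_inj]
  have hμ0 : (μ : G → ℂ) x = 0 := by
    by_contra h
    have h1 := classInner_irr_ind hh hr hxr hxa hz hzc μ.2 l0 (l0 ^ j)
    rw [hd, hirr, if_pos rfl, if_neg hne, hinv μ.2 h, sub_self] at h1
    exact one_ne_zero ((sub_zero (1 : ℂ)).symm.trans h1)
  have hν0 : (ν : G → ℂ) x = 0 := hmn ▸ hμ0
  -- every other coefficient agrees with that of `l0`
  have hmult : ∀ l : (cen z) →* ℂˣ, l ≠ 1 →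
      Cfsg.classInner (fun y : cen z => χ y) (lin l) =
        Cfsg.classInner (fun y : cen z => χ y) (lin l0) := by
    intro l hl
    refine (sub_eq_zero.1 ?_).symm
    rw [← classInner_irr_ind hh hr hxr hxa hz hzc hχ]
    by_cases ho : ∃ w : Subgroup.normalizer (cen z : Set G), l0.comp (cj (cen z) w) = l
    · obtain ⟨w, rfl⟩ := ho
      have hres : Cfsg.classInner (fun y : cen z => χ y) (lin (l0.comp (cj (cen z) w))) =
          Cfsg.classInner (fun y : cen z => χ y) (lin l0) := by
        simp only [Cfsg.classInner]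
        congr 1
        refine Fintype.sum_bijective _ (cj_bijective hh hr hxr hxa hz hzc w) _ _ fun y => ?_
        have hcf := Char.IsCharacter.isClassFunction (Char.IsIrrCharacter.isCharacter hχ) (y : G)
          (w : G)⁻¹
        rw [inv_inv] at hcf
        rw [cj_apply, hcf]
        rfl
      rw [classInner_irr_ind hh hr hxr hxa hz hzc hχ, hres, sub_self]
    · push Not at ho
      have ho' : ∀ w : Subgroup.normalizer (cen z : Set G), l.comp (cj (cen z) w) ≠ l0 := by
        intro w e
        refine ho w⁻¹ (MonoidHom.ext fun y => ?_)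
        have h1 := DFunLike.congr_fun e (cj (cen z) w⁻¹ y)
        rw [MonoidHom.comp_apply, show cj (cen z) w (cj (cen z) w⁻¹ y) = y from
          Subtype.ext (by simp [cj_apply, mul_assoc])] at h1
        exact h1.symm
      obtain ⟨μ', ν', -, hd', hmn'⟩ := ind_diff hh hr hxr hxa hz hzc hl1 hl ho' ho
      have hne0 : Cfsg.classInner ((μ : G → ℂ) - (ν : G → ℂ)) ((μ' : G → ℂ) - (ν' : G → ℂ)) ≠ 0 := by
        rw [← hd, ← hd', classInner_ind_lin hh hr hxr hxa hz hzc,
          cnt_self hh hr hxr hxa hz hzc hl1]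
        have e1 : cnt z l0 l = 0 := by
          simp only [cnt, Finset.card_eq_zero, Finset.filter_eq_empty_iff]
          exact fun w _ h => ho' w h.symm
        have e2 : cnt z (l0 ^ j) l0 = 0 := by
          simp only [cnt, Finset.card_eq_zero, Finset.filter_eq_empty_iff]
          exact fun w _ h => horb w h.symm
        rw [e1, e2, Nat.cast_zero, sub_zero, sub_zero]
        refine mul_ne_zero (inv_ne_zero (Nat.cast_ne_zero.mpr ha0)) ?_
        exact_mod_cast Nat.ne_of_gt (by omega : 0 < a + cnt z (l0 ^ j) l)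
      have hzero : (μ' : G → ℂ) x = 0 := by
        by_contra h
        apply hne0
        have e : ∀ φ : Cfsg.IrrCharacter G, (φ : G → ℂ) x ≠ 0 → φ ≠ μ ∧ φ ≠ ν := fun φ hφ =>
          ⟨fun e => hφ (e ▸ hμ0), fun e => hφ (e ▸ hν0)⟩
        have e1 := e μ' h
        have e2 := e ν' (hmn' ▸ h)
        rw [Char.classInner_diff, if_neg e1.1.symm, if_neg e2.2.symm, if_neg e2.1.symm,
          if_neg e1.2.symm]
        simp
      rw [hd', show χ = ((⟨χ, hχ⟩ : Cfsg.IrrCharacter G) : G → ℂ) from rfl, hirr, if_neg, if_neg,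
        sub_self]
      · intro e
        apply hx0
        have := congrArg (fun φ : Cfsg.IrrCharacter G => (φ : G → ℂ) x) e
        exact this.trans (hmn'.symm.trans hzero)
      · intro e
        exact hx0 ((congrArg (fun φ : Cfsg.IrrCharacter G => (φ : G → ℂ) x) e).trans hzero)
  have hcst := fun y => const_of_mult hcomm (fun y : cen z => χ y) _ hmult (k := y)
  exact (hcst k hk).trans (hcst k' hk').symm

theorem bound_false {n : ℕ} (hn : n * b = Nat.card G) : False := by
  classical
  haveI := hh.simple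
  have hK : Nat.card (cen z) = a := hh.card_cen_c hzc
  have ha : 2 < a := by
    by_contra h
    push Not at h
    obtain rfl : a = 2 := le_antisymm h hh.one_lt_a
    have hprime := Char.prime_card_of_class_prime_pow Nat.prime_two x
      (x_ne_one hh hr hxr hxa hz hzc) (show _ = 2 ^ 1 from hxa)
    rw [hh.card_eq] at hprime
    exact Nat.not_prime_mul (by norm_num) hh.one_lt_c.ne' hprime
  obtain ⟨k0, hk0⟩ : ∃ k : cen z, k ≠ 1 := ⟨⟨z, self_mem z⟩, fun h => hz (congrArg Subtype.val h)⟩
  set e := Nat.card (Subgroup.normalizer (cen z : Set G) ⊓ cen x : Subgroup G)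
  have hne := two_mul_le hh hr hxr hxa hz hzc hn
  -- the sum of squares at `x * k`
  have hcol : (n : ℝ) = ∑ χ : Cfsg.IrrCharacter G, Complex.normSq ((χ : G → ℂ) (x * k0)) := by
    have h1 := Char.column_orth_of_isConj (IsConj.refl (x * (k0 : G)))
    have h2 := card_mul_ind (x * (k0 : G))
    rw [ind_mul hh hr hxr hxa hz hzc k0.2 (fun h => hk0 (Subtype.ext h)), ← hn] at h2
    simp only [Complex.mul_conj] at h1
    rw [Nat.eq_of_mul_eq_mul_right (by linarith [hh.one_lt_a, hh.ab]) h2] at h1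
    exact_mod_cast h1.symm
  set θ : cen z → ℂ := fun k => if k = 1 then 0 else 1 with hθ
  have haC : (a : ℂ) ≠ 0 := Nat.cast_ne_zero.mpr (by omega)
  have hθθ : Cfsg.classInner θ θ = ((a : ℂ) - 1) / a := by
    simp only [Cfsg.classInner, hK]
    have h1 : ∀ k : cen z, θ k * conj (θ k) = 1 - (if k = 1 then 1 else 0) := fun k => by
      simp only [hθ]; split_ifs <;> simp
    rw [Finset.sum_congr rfl fun k _ => h1 k, Finset.sum_sub_distrib, Finset.sum_ite_eq',
      if_pos (Finset.mem_univ _), Finset.sum_const, Finset.card_univ, ← Nat.card_eq_fintype_card,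
      hK, nsmul_one, div_eq_inv_mul]
  set f := Cfsg.indFun (cen z) θ with hf
  have hff : Cfsg.classInner f f = (e : ℂ) * (((a : ℂ) - 1) / a) := by
    rw [hf, classInner_ind hh hr hxr hxa hz hzc _ _ (by simp [hθ]),
      Finset.sum_congr rfl fun w _ => (congrArg (Cfsg.classInner θ) (funext fun k => ?_)).trans hθθ,
      Finset.sum_const, Finset.card_univ, ← Nat.card_eq_fintype_card,
      card_normalizer hh hr hxr hxa hz hzc, nsmul_eq_mul, Nat.cast_mul]
    · field_simp
      simp only [e]
      ring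
    · simp only [hθ]
      exact if_congr ⟨fun h => (cj_bijective hh hr hxr hxa hz hzc w).1 (h.trans (map_one _).symm),
        fun h => by rw [h, map_one]⟩ rfl rfl
  have hfc : Cfsg.IsClassFunction G f := Char.isClassFunction_indFun _ θ
  have hparse : Cfsg.classInner f f =
      ∑ χ : Cfsg.IrrCharacter G, (Complex.normSq (Cfsg.classInner f χ) : ℂ) := by
    conv_lhs => rw [Char.classFunction_eq_sum hfc]
    rw [Char.classInner_combination₂]
    exact Finset.sum_congr rfl fun χ _ => Complex.mul_conj _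
  have hterm : ∀ χ : Cfsg.IrrCharacter G,
      (((a : ℝ) - 1) / a) ^ 2 * Complex.normSq ((χ : G → ℂ) (x * k0)) ≤
        Complex.normSq (Cfsg.classInner f χ) := by
    intro χ
    have h1 := char_mul hh hr hxr hxa hz hzc χ.2 k0.2 (fun h => hk0 (Subtype.ext h))
    by_cases hx0 : (χ : G → ℂ) x = 0
    · rw [hx0, zero_mul, mul_eq_zero] at h1
      rw [h1.resolve_right (Char.IsIrrCharacter.one_ne_zero χ.2), map_zero, mul_zero]
      exact Complex.normSq_nonneg _
    have hin : Cfsg.classInner f χ = (((a : ℂ) - 1) / a) * conj ((χ : G → ℂ) k0) := by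
      rw [hf, Char.classInner_indFun_left _ _
        (Char.IsCharacter.isClassFunction (Char.IsIrrCharacter.isCharacter χ.2))]
      simp only [Cfsg.classInner, hK]
      have h2 : ∀ k : cen z, θ k * conj ((χ : G → ℂ) k) =
          conj ((χ : G → ℂ) k0) - (if k = 1 then conj ((χ : G → ℂ) k0) else 0) := by
        intro k
        simp only [hθ]
        split_ifs with h
        · simp
        · rw [one_mul, sub_zero, char_const hh hr hxr hxa hz hzc χ.2 hx0 h hk0]
      rw [Finset.sum_congr rfl fun k _ => h2 k, Finset.sum_sub_distrib, Finset.sum_ite_eq',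
        if_pos (Finset.mem_univ _), Finset.sum_const, Finset.card_univ, ← Nat.card_eq_fintype_card,
        hK, nsmul_eq_mul]
      ring
    rw [hin, map_mul, Complex.normSq_conj,
      show ((a : ℂ) - 1) / a = (((((a : ℝ) - 1) / a) : ℝ) : ℂ) by push_cast; rfl,
      Complex.normSq_ofReal, ← pow_two]
    refine mul_le_mul_of_nonneg_left ?_ (sq_nonneg _)
    obtain ⟨N, ρ, hρ, hρc⟩ := χ.2
    have hle := Char.norm_char_le ρ x
    rw [hρc] at hle
    have hd : (χ : G → ℂ) 1 = (Module.finrank ℂ (Fin N → ℂ) : ℂ) := by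
      rw [← hρc, Representation.char_one]
    have hd0 : (0 : ℝ) < (Module.finrank ℂ (Fin N → ℂ) : ℝ) :=
      Nat.cast_pos.mpr (Char.finrank_pos_of_irreducible ρ)
    have h3 := congrArg norm h1
    rw [norm_mul, norm_mul, hd, Complex.norm_natCast] at h3
    rw [Complex.normSq_eq_norm_sq, Complex.normSq_eq_norm_sq]
    refine pow_le_pow_left₀ (norm_nonneg _) (le_of_mul_le_mul_right ?_ hd0) 2
    rw [h3, mul_comm ‖(χ : G → ℂ) k0‖]
    exact mul_le_mul_of_nonneg_right hle (norm_nonneg _)
  have hsum := Finset.sum_le_sum (s := Finset.univ) fun χ _ => hterm χ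
  rw [← Finset.mul_sum, ← hcol] at hsum
  have hre : ∑ χ : Cfsg.IrrCharacter G, Complex.normSq (Cfsg.classInner f χ) =
      (e : ℝ) * (((a : ℝ) - 1) / a) := by
    have := hparse.symm.trans hff
    rw [← Complex.ofReal_sum] at this
    apply Complex.ofReal_injective
    rw [this]
    push_cast
    rfl
  rw [hre, pow_two, mul_assoc, mul_comm (e : ℝ)] at hsum
  have haR : (2 : ℝ) < a := by exact_mod_cast ha
  have hq : (0 : ℝ) < ((a : ℝ) - 1) / a := div_pos (by linarith) (by linarith)
  have h5 := le_of_mul_le_mul_left hsum hq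
  rw [div_mul_eq_mul_div, div_le_iff₀ (by linarith)] at h5
  have hne' : (2 : ℝ) * e ≤ n := by exact_mod_cast hne
  have he0 : (0 : ℝ) < e := Nat.cast_pos.mpr Nat.card_pos
  nlinarith

end Cfsg.Agent.ConjRankThree
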